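import Cfsg.Agent.Lib.Helper11.Om11F.H17_FrCDefs
import Cfsg.Agent.Lib.Helper15.Fr2S3

set_option linter.dupNamespace false
set_option linter.ambiguousOpen false

namespace Cfsg.Agent.Lib.Helper11.Om11F

/-!
helper15: CORE13 (S5679 + S5696) block S of notes/S5679_core_leaves.lean: `rt_e`, `rt_conj`, `perm_mem`, `rt_perm`,
`sys_of_ctx`, exact signatures.  By-products: `wordProd_map_single` (a product of coordinate reflections is a sign change),
`normProd_map_single`, `dot_toOG` (elements of the isometry group of `stdQ` preserve the dot product), `negRefl_neg`,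
`toOG_negRefl_unit` (`-r_b a = -(a - 2 (a·b) b)` for a unit vector `b`), `isMono_of_apply`.
-/

set_option autoImplicit false
set_option linter.unusedSectionVars false
set_option linter.unusedVariables false

namespace Cfsg.Agent.Lib.Helper15.FrCLeaf
open Cfsg.Agent.Lib.Helper15.FrCLeaf
open _root_.Cfsg.Agent.Lib.Helper15

open Module QuadraticMap Matrix Cfsg.Agent.Lib.Helper25.CD Cfsg.Agent.Lib.Helper25.Spin
  Cfsg.Agent.Lib.Helper5.NSMax Cfsg.Agent.Lib.Helper5.PairMax Cfsg.Agent.Lib.Helper17.OC2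
  Cfsg.Agent.Lib.Helper29.FrStd Cfsg.Agent.Lib.Helper11.Mono Cfsg.Agent.Lib.Helper17.FrC
open _root_.Cfsg.Agent.Lib.Helper25.CD _root_.Cfsg.Agent.Lib.Helper25.Spin _root_.Cfsg.Agent.Lib.Helper5.NSMax _root_.Cfsg.Agent.Lib.Helper5.PairMax _root_.Cfsg.Agent.Lib.Helper17.OC2 _root_.Cfsg.Agent.Lib.Helper29.FrStd _root_.Cfsg.Agent.Lib.Helper11.Mono

variable {κ : Type} [Fintype κ] [DecidableEq κ] {F : Type*} [Field F] [Fintype F]
  {c : F} {M : Subgroup ↥(Cfsg.isometryGroup F ⇑(stdQ κ F c))}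

/-- a product of coordinate reflections is a sign change -/
lemma wordProd_map_single (hc : c ≠ 0) (l : List κ) (hl : l.Nodup) (x : κ → F) :
    wordProd (stdQ κ F c) (l.map (fun j => (Pi.single j (1 : F) : κ → F))) x =
      fun j => if j ∈ l then - x j else x j := by
  induction l with
  | nil =>
    rw [List.map_nil, wordProd_nil]
    ext j
    simp
  | cons a l ih =>
    rw [List.map_cons, wordProd_cons, LinearEquiv.mul_apply, ih (List.nodup_cons.1 hl).2,
      Cfsg.Agent.Lib.Helper15.Fr2Leaf.reflE_single hc]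
    have ha : a ∉ l := (List.nodup_cons.1 hl).1
    ext j
    by_cases hj : j = a
    · subst hj
      simp [ha]
    · simp [hj]

lemma normProd_map_single (l : List κ) :
    normProd (stdQ κ F c) (l.map (fun j => (Pi.single j (1 : F) : κ → F))) = c ^ l.length := by
  induction l with
  | nil => rw [List.map_nil, normProd_nil, List.length_nil, pow_zero]
  | cons a l ih =>
    rw [List.map_cons, normProd_cons, ih, Cfsg.Agent.Lib.Helper15.Fr2Leaf.stdQ_single, List.length_cons,
      pow_succ, mul_comm]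

/-- a matrix mapping every coordinate vector to a multiple of a coordinate vector is monomial -/
lemma isMono_of_apply {g : Matrix κ κ F} (f : κ → κ) (s : κ → F)
    (h : ∀ j, g *ᵥ (Pi.single j 1) = s j • (Pi.single (f j) (1 : F) : κ → F)) : IsMono g := by
  intro j
  refine ⟨f j, ?_⟩
  intro k hk
  have := congrFun (h j) k
  rw [Matrix.mulVec_single_one] at this
  simp only [Matrix.col_apply, Pi.smul_apply, Pi.single_apply, if_neg hk, smul_zero] at this
  exact this

/-- elements of the isometry group of `stdQ` preserve the dot product of a vector with itself -/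
lemma dot_toOG (hc : c ≠ 0) (g : ↥(Cfsg.isometryGroup F ⇑(stdQ κ F c))) (a : κ → F) :
    toOG (stdQ κ F c) g a ⬝ᵥ toOG (stdQ κ F c) g a = a ⬝ᵥ a := by
  have h := mem_OG.1 (toOG_mem_OG (stdQ κ F c) g) a
  rw [stdQ_apply, stdQ_apply] at h
  exact mul_left_cancel₀ hc h

lemma dot_e (i : κ) : (e i : κ → F) ⬝ᵥ e i = 1 := by
  unfold e
  rw [single_dotProduct, Pi.single_eq_same, mul_one]

/-- `-r_{e_i}` in coordinates -/
lemma toOG_negRefl_e (hc : c ≠ 0) (i : κ) (x : κ → F) :
    toOG (stdQ κ F c) (negRefl (stdQ κ F c) (e i)) x = fun j => if j = i then x j else - x j := by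
  rw [toOG_negRefl]
  unfold e
  rw [Cfsg.Agent.Lib.Helper15.Fr2Leaf.reflE_single hc]
  ext j
  by_cases hj : j = i
  · simp [hj]
  · simp [hj]

/-- S1. -/
theorem rt_e (h : Ctx c M) (i : κ) : Rt c M (e i) := by
  classical
  refine ⟨dot_e i, ?_⟩
  have hnd := Cfsg.Agent.Lib.Helper15.Fr2Leaf.stdQ_nondeg' (ι := κ) h.h2 h.hc
  apply h.mono
  · -- membership in `Ω`
    set l : List κ := (Finset.univ.erase i).toList with hl
    have hnodup : l.Nodup := Finset.nodup_toList _
    have hlen : l.length = 10 := by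
      rw [hl, Finset.length_toList, Finset.card_erase_of_mem (Finset.mem_univ i), Finset.card_univ, h.card]
    have hmem : ∀ j, j ∈ l ↔ j ≠ i := by
      intro j
      rw [hl, Finset.mem_toList, Finset.mem_erase]
      exact ⟨fun hj => hj.1, fun hj => ⟨hj, Finset.mem_univ j⟩⟩
    have heq : negRefl (stdQ κ F c) (e i) =
        wordG (stdQ κ F c) (l.map (fun j => (Pi.single j (1 : F) : κ → F))) := by
      apply toOG_injective
      ext1 x
      rw [toOG_wordG, wordProd_map_single h.hc l hnodup, toOG_negRefl_e h.hc]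
      ext j
      by_cases hj : j = i
      · rw [if_pos hj, if_neg (fun hm => (hmem j).1 hm hj)]
      · rw [if_neg hj, if_pos ((hmem j).2 hj)]
    rw [heq, mem_omega_iff (stdQ κ F c) h.h2 hnd]
    · refine ⟨?_, ?_⟩
      · rw [List.length_map, hlen]
        exact ⟨5, rfl⟩
      · rw [normProd_map_single, hlen]
        exact ⟨c ^ 5, by ring⟩
    · intro v hv
      rw [List.mem_map] at hv
      obtain ⟨j, _, rfl⟩ := hv
      rw [Cfsg.Agent.Lib.Helper15.Fr2Leaf.stdQ_single]
      exact h.hc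
  · -- monomial
    apply isMono_of_apply (fun j => j) (fun j => if j = i then 1 else -1)
    intro j
    rw [← toOG_apply, toOG_negRefl_e h.hc]
    ext k
    by_cases hk : k = j
    · subst hk
      by_cases hki : k = i
      · simp [hki]
      · simp [hki]
    · simp [hk]

/-- S2. -/
theorem rt_conj (h : Ctx c M) {g : ↥(Cfsg.isometryGroup F ⇑(stdQ κ F c))} (hg : g ∈ M) {a : κ → F}
    (ha : Rt c M a) : Rt c M (toOG (stdQ κ F c) g a) := by
  refine ⟨?_, ?_⟩
  · rw [dot_toOG h.hc, ha.1]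
  · rw [← conj_negRefl]
    exact M.mul_mem (M.mul_mem hg ha.2) (M.inv_mem hg)

/-- the 3-cycle case of S3' -/
lemma threeCycle_mem' (h : Ctx c M) (σ : Equiv.Perm κ) (hσ : σ.IsThreeCycle) :
    ∃ g ∈ M, ∀ x : κ → F, toOG (stdQ κ F c) g x = x ∘ σ := by
  have hnd := Cfsg.Agent.Lib.Helper15.Fr2Leaf.stdQ_nondeg' (ι := κ) h.h2 h.hc
  have hne : σ.support.Nonempty := by
    rw [← Finset.card_pos, hσ.card_support]; norm_num
  obtain ⟨a, ha⟩ := hne
  have hnodup := hσ.nodup_iff_mem_support.mpr ha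
  have hdec := hσ.eq_swap_mul_swap_iff_mem_support.mpr ha
  have hab : a ≠ σ a := by
    intro h'; rw [← h'] at hnodup; simp at hnodup
  have hbc : σ a ≠ σ (σ a) := by
    intro h'; rw [← h'] at hnodup; simp at hnodup
  have h2c : (2 : F) * c ≠ 0 := mul_ne_zero h.h2 h.hc
  set vs : List (κ → F) :=
    [Pi.single (σ a) 1 - Pi.single (σ (σ a)) 1, Pi.single a 1 - Pi.single (σ a) 1] with hvs
  have hvs0 : ∀ v ∈ vs, stdQ κ F c v ≠ 0 := by
    intro v hv
    simp only [hvs, List.mem_cons, List.not_mem_nil, or_false] at hv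
    rcases hv with rfl | rfl
    · rw [Cfsg.Agent.Lib.Helper15.Fr2Leaf.stdQ_sub_single c hbc]; exact h2c
    · rw [Cfsg.Agent.Lib.Helper15.Fr2Leaf.stdQ_sub_single c hab]; exact h2c
  have hact : ∀ x : κ → F, toOG (stdQ κ F c) (wordG (stdQ κ F c) vs) x = x ∘ σ := by
    intro x
    rw [toOG_wordG, hvs, wordProd_cons, wordProd_cons, wordProd_nil, mul_one, LinearEquiv.mul_apply,
      Cfsg.Agent.Lib.Helper15.Fr2Leaf.reflE_sub_single h.h2 h.hc hab,
      Cfsg.Agent.Lib.Helper15.Fr2Leaf.reflE_sub_single h.h2 h.hc hbc]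
    conv_rhs => rw [hdec]
    rfl
  refine ⟨wordG (stdQ κ F c) vs, ?_, hact⟩
  apply h.mono
  · rw [mem_omega_iff (stdQ κ F c) h.h2 hnd hvs0]
    refine ⟨⟨1, rfl⟩, ?_⟩
    rw [hvs, normProd_cons, normProd_cons, normProd_nil,
      Cfsg.Agent.Lib.Helper15.Fr2Leaf.stdQ_sub_single c hbc,
      Cfsg.Agent.Lib.Helper15.Fr2Leaf.stdQ_sub_single c hab, mul_one]
    exact ⟨2 * c, rfl⟩
  · apply isMono_of_apply (fun j => σ.symm j) (fun _ => 1)
    intro j
    rw [← toOG_apply, hact, one_smul]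
    ext k
    simp only [Function.comp_apply, Pi.single_apply]
    by_cases hk : k = σ.symm j
    · rw [if_pos hk, if_pos (by rw [hk, Equiv.apply_symm_apply])]
    · rw [if_neg hk, if_neg (fun h' => hk (by rw [← h', Equiv.symm_apply_apply]))]

/-- S3'. -/
theorem perm_mem (h : Ctx c M) (σ : Equiv.Perm κ) (hσ : Equiv.Perm.sign σ = 1) :
    ∃ g ∈ M, ∀ x : κ → F, toOG (stdQ κ F c) g x = x ∘ σ := by
  have hmem : σ ∈ alternatingGroup κ := Equiv.Perm.mem_alternatingGroup.2 hσ
  rw [← Equiv.Perm.closure_three_cycles_eq_alternating] at hmem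
  clear hσ
  induction hmem using Subgroup.closure_induction with
  | mem τ hτ => exact threeCycle_mem' h τ hτ
  | one =>
    refine ⟨1, M.one_mem, fun x => ?_⟩
    rw [map_one]
    rfl
  | mul τ τ' _ _ ih ih' =>
    obtain ⟨g, hg, hgx⟩ := ih
    obtain ⟨g', hg', hgx'⟩ := ih'
    refine ⟨g' * g, M.mul_mem hg' hg, fun x => ?_⟩
    rw [map_mul, LinearEquiv.mul_apply, hgx, hgx']
    rfl
  | inv τ _ ih =>
    obtain ⟨g, hg, hgx⟩ := ih
    refine ⟨g⁻¹, M.inv_mem hg, fun x => ?_⟩
    have h1 : toOG (stdQ κ F c) g (x ∘ ⇑τ⁻¹) = x := by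
      rw [hgx]
      ext k
      simp
    rw [map_inv]
    conv_lhs => rw [← h1]
    exact LinearEquiv.symm_apply_apply _ _

/-- S3. -/
theorem rt_perm (h : Ctx c M) (σ : Equiv.Perm κ) (hσ : Equiv.Perm.sign σ = 1) {a : κ → F}
    (ha : Rt c M a) : Rt c M (a ∘ σ) := by
  obtain ⟨g, hg, hgx⟩ := perm_mem h σ hσ
  rw [← hgx a]
  exact rt_conj h hg ha

/-- `r_{-a} = r_a` -/
lemma negRefl_neg (a : κ → F) : negRefl (stdQ κ F c) (-a) = negRefl (stdQ κ F c) a := by
  apply toOG_injective
  ext1 x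
  rw [toOG_negRefl, toOG_negRefl, reflE_apply, reflE_apply, QuadraticMap.map_neg, polar_neg_left]
  simp

/-- `-r_b` on `a` for a unit vector `b` -/
lemma toOG_negRefl_unit (hc : c ≠ 0) (h2 : (2 : F) ≠ 0) {b : κ → F} (hb : b ⬝ᵥ b = 1) (a : κ → F) :
    toOG (stdQ κ F c) (negRefl (stdQ κ F c) b) a = -(a - (2 * (a ⬝ᵥ b)) • b) := by
  rw [toOG_negRefl, reflE_apply, polar_stdQ, stdQ_apply]
  have h1 : ∑ i, b i * b i = 1 := hb
  have h3 : ∑ i, b i * a i = a ⬝ᵥ b := by
    rw [dotProduct_comm]; rfl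
  rw [h1, h3, mul_one]
  congr 3
  field_simp

lemma rt_neg {a : κ → F} (ha : Rt c M a) : Rt c M (-a) := by
  refine ⟨?_, ?_⟩
  · rw [neg_dotProduct, dotProduct_neg, neg_neg, ha.1]
  · rw [negRefl_neg]; exact ha.2

/-- S4. -/
theorem sys_of_ctx (h : Ctx c M) : Sys (Rt c M) where
  unit := fun a ha => ha.1
  frame := fun i => rt_e h i
  neg := fun a ha => rt_neg ha
  flip := by
    intro a i ha
    have h1 := rt_neg (rt_conj h (rt_e h i).2 ha)
    have h2 : -(toOG (stdQ κ F c) (negRefl (stdQ κ F c) (e i)) a) = flip i a := by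
      rw [toOG_negRefl_e h.hc]
      ext j
      unfold Cfsg.Agent.Lib.Helper17.FrC.flip
      by_cases hj : j = i
      · subst hj
        simp
      · simp [hj]
    rwa [h2] at h1
  perm := fun a σ hσ ha => rt_perm h σ hσ ha
  refl := by
    intro a b ha hb
    have h1 := rt_neg (rt_conj h hb.2 ha)
    rwa [toOG_negRefl_unit h.hc h.h2 hb.1, neg_neg] at h1

end Cfsg.Agent.Lib.Helper15.FrCLeaf


end Cfsg.Agent.Lib.Helper11.Om11F
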