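import Cfsg.Agent.Lib.Helper11.Om11F.H17_FrCDefs

set_option linter.dupNamespace false
set_option linter.ambiguousOpen false

namespace Cfsg.Agent.Lib.Helper11.Om11F

/-!
# CORE13 (S5679 + S5696), leaf D2 `order_pair` (helper17's market, notes/S5679_core_leaves.lean)
-/

set_option autoImplicit false
set_option linter.unusedSectionVars false
set_option linter.unusedVariables false

namespace Cfsg.Agent.Lib.Helper6.FrCLeaf
open Cfsg.Agent.Lib.Helper6.FrCLeaf

open Module QuadraticMap Matrix Cfsg.Agent.Lib.Helper25.CD Cfsg.Agent.Lib.Helper25.Spin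
  Cfsg.Agent.Lib.Helper5.NSMax Cfsg.Agent.Lib.Helper5.PairMax Cfsg.Agent.Lib.Helper17.OC2
  Cfsg.Agent.Lib.Helper29.FrStd Cfsg.Agent.Lib.Helper11.Mono Cfsg.Agent.Lib.Helper17.FrC
open _root_.Cfsg.Agent.Lib.Helper25.CD _root_.Cfsg.Agent.Lib.Helper25.Spin _root_.Cfsg.Agent.Lib.Helper5.NSMax _root_.Cfsg.Agent.Lib.Helper5.PairMax _root_.Cfsg.Agent.Lib.Helper17.OC2 _root_.Cfsg.Agent.Lib.Helper29.FrStd _root_.Cfsg.Agent.Lib.Helper11.Mono

variable {κ : Type} [Fintype κ] [DecidableEq κ] {F : Type*} [Field F] [Fintype F]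
  {c : F} {M : Subgroup ↥(Cfsg.isometryGroup F ⇑(stdQ κ F c))}

/-- the action of `-r_a` for a unit vector `a`. -/
theorem negRefl_apply_unit (hc : c ≠ 0) {a : κ → F} (ha : a ⬝ᵥ a = 1) (x : κ → F) :
    toOG (stdQ κ F c) (negRefl (stdQ κ F c) a) x = -x + (2 * (a ⬝ᵥ x)) • a := by
  rw [toOG_negRefl, reflE_apply, polar_stdQ, stdQ_apply]
  have h1 : ∑ i, a i * a i = 1 := ha
  have h2 : ∑ i, a i * x i = a ⬝ᵥ x := rfl
  rw [h1, h2, mul_one]
  have h3 : c⁻¹ * (2 * c * (a ⬝ᵥ x)) = 2 * (a ⬝ᵥ x) := by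
    field_simp
  rw [h3]
  abel

/-- the action of `ρ = (-r_a)(-r_b)` on the plane `<a, b>`. -/
theorem rho_comb (hc : c ≠ 0) {a b : κ → F} (ha : a ⬝ᵥ a = 1) (hb : b ⬝ᵥ b = 1) (x y : F) :
    toOG (stdQ κ F c) (negRefl (stdQ κ F c) a * negRefl (stdQ κ F c) b) (x • a + y • b) =
      ((4 * (a ⬝ᵥ b) ^ 2 - 1) * x + 2 * (a ⬝ᵥ b) * y) • a +
        (-(2 * (a ⬝ᵥ b)) * x - y) • b := by
  rw [map_mul, LinearEquiv.mul_apply, negRefl_apply_unit hc hb, negRefl_apply_unit hc ha]
  have hba : b ⬝ᵥ a = a ⬝ᵥ b := dotProduct_comm b a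
  simp only [dotProduct_add, dotProduct_smul, dotProduct_neg, smul_eq_mul, ha, hb, hba]
  simp only [smul_add, smul_smul, neg_add, ← neg_smul]
  have e : ∀ p q r s : F, p • a + q • b + (r • a + s • b) = (p + r) • a + (q + s) • b := by
    intro p q r s
    rw [add_smul, add_smul]; abel
  module

/-- the coefficients of `ρ^n a` -/
def itA (t : F) : ℕ → F × F
  | 0 => (1, 0)
  | n + 1 => ((4 * t ^ 2 - 1) * (itA t n).1 + 2 * t * (itA t n).2, -(2 * t) * (itA t n).1 - (itA t n).2)

/-- the coefficients of `ρ^n b` -/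
def itB (t : F) : ℕ → F × F
  | 0 => (0, 1)
  | n + 1 => ((4 * t ^ 2 - 1) * (itB t n).1 + 2 * t * (itB t n).2, -(2 * t) * (itB t n).1 - (itB t n).2)

theorem rho_pow_a (hc : c ≠ 0) {a b : κ → F} (ha : a ⬝ᵥ a = 1) (hb : b ⬝ᵥ b = 1) (n : ℕ) :
    toOG (stdQ κ F c) ((negRefl (stdQ κ F c) a * negRefl (stdQ κ F c) b) ^ n) a =
      (itA (a ⬝ᵥ b) n).1 • a + (itA (a ⬝ᵥ b) n).2 • b := by
  induction n with
  | zero =>
    simp only [pow_zero, map_one, itA, one_smul, zero_smul, add_zero]
    rfl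
  | succ n ih =>
    rw [pow_succ', map_mul, LinearEquiv.mul_apply, ih, rho_comb hc ha hb]
    rfl

theorem rho_pow_b (hc : c ≠ 0) {a b : κ → F} (ha : a ⬝ᵥ a = 1) (hb : b ⬝ᵥ b = 1) (n : ℕ) :
    toOG (stdQ κ F c) ((negRefl (stdQ κ F c) a * negRefl (stdQ κ F c) b) ^ n) b =
      (itB (a ⬝ᵥ b) n).1 • a + (itB (a ⬝ᵥ b) n).2 • b := by
  induction n with
  | zero =>
    simp only [pow_zero, map_one, itB, one_smul, zero_smul, zero_add]
    rfl
  | succ n ih =>
    rw [pow_succ', map_mul, LinearEquiv.mul_apply, ih, rho_comb hc ha hb]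
    rfl

/-- D2. -/
theorem order_pair (hc : c ≠ 0) (hp : (Fintype.card F).Prime) (h5 : 5 ≤ Fintype.card F) {a b : κ → F}
    (ha : a ⬝ᵥ a = 1) (hb : b ⬝ᵥ b = 1) {k : ℕ} (hk1 : 1 ≤ k) (hk5 : k ≤ 5) (hkp : k ≠ Fintype.card F)
    (hfa : toOG (stdQ κ F c) ((negRefl (stdQ κ F c) a * negRefl (stdQ κ F c) b) ^ k) a = a)
    (hfb : toOG (stdQ κ F c) ((negRefl (stdQ κ F c) a * negRefl (stdQ κ F c) b) ^ k) b = b) :
    Sp ((a ⬝ᵥ b) ^ 2) ∧ ((a ⬝ᵥ b) ^ 2 = 1 → b = a ∨ b = -a) := by
  have : Fact (Fintype.card F).Prime := ⟨hp⟩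
  have hch : CharP F (Fintype.card F) := charP_of_card_eq_prime rfl
  have hnat : ∀ n : ℕ, 0 < n → n < 5 → ((n : ℕ) : F) ≠ 0 := by
    intro n hn0 hn5 h
    rw [CharP.cast_eq_zero_iff F (Fintype.card F)] at h
    have := Nat.le_of_dvd hn0 h
    omega
  have h2 : (2 : F) ≠ 0 := by have := hnat 2 (by norm_num) (by norm_num); exact_mod_cast this
  have h3 : (3 : F) ≠ 0 := by have := hnat 3 (by norm_num) (by norm_num); exact_mod_cast this
  have h5' : (5 : F) = 0 → Fintype.card F = 5 := by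
    intro h
    have h' : ((5 : ℕ) : F) = 0 := by exact_mod_cast h
    rw [CharP.cast_eq_zero_iff F (Fintype.card F)] at h'
    have := Nat.le_of_dvd (by norm_num) h'
    omega
  rw [rho_pow_a hc ha hb] at hfa
  rw [rho_pow_b hc ha hb] at hfb
  set t := a ⬝ᵥ b with ht
  have hba : b ⬝ᵥ a = t := dotProduct_comm b a
  -- scalar equations
  have ea1 := congrArg (fun v => a ⬝ᵥ v) hfa
  have ea2 := congrArg (fun v => b ⬝ᵥ v) hfa
  have eb1 := congrArg (fun v => a ⬝ᵥ v) hfb
  have eb2 := congrArg (fun v => b ⬝ᵥ v) hfb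
  simp only [dotProduct_add, dotProduct_smul, smul_eq_mul, ha, hb, hba, ← ht] at ea1 ea2 eb1 eb2
  by_cases hs : t ^ 2 = 1
  · refine ⟨Or.inr (Or.inl hs), fun _ => ?_⟩
    have key : ∀ n : ℕ, itA t n = ((2 * n + 1 : F), -(2 * n * t)) := by
      intro n
      induction n with
      | zero => simp [itA]
      | succ n ih =>
        rw [itA, ih]
        apply Prod.ext
        · simp only [Nat.cast_succ]
          linear_combination (4 * (n : F) + 4) * hs
        · simp only [Nat.cast_succ]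
          ring
    rw [key k] at hfa
    simp only at hfa
    have hk0 : ((k : ℕ) : F) ≠ 0 := by
      intro h
      rw [CharP.cast_eq_zero_iff F (Fintype.card F)] at h
      have := Nat.le_of_dvd (by omega) h
      omega
    have h2k : (2 * (k : F)) ≠ 0 := mul_ne_zero h2 hk0
    have e1 : (2 * (k : F)) • (a - t • b) = 0 := by
      have : (2 * (k : F)) • (a - t • b) = ((2 * (k : F) + 1) • a + (-(2 * (k : F) * t)) • b) - a := by
        module
      rw [this, hfa, sub_self]
    have e2 : a - t • b = 0 := by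
      rcases smul_eq_zero.1 e1 with h | h
      · exact absurd h h2k
      · exact h
    have e3 : a = t • b := sub_eq_zero.1 e2
    have ht1 : t = 1 ∨ t = -1 := by
      have : (t - 1) * (t + 1) = 0 := by linear_combination hs
      rcases mul_eq_zero.1 this with h | h
      · exact Or.inl (sub_eq_zero.1 h)
      · exact Or.inr (eq_neg_of_add_eq_zero_left h)
    rcases ht1 with h1 | h1
    · left
      rw [e3, h1, one_smul]
    · right
      rw [e3, h1, neg_smul, one_smul, neg_neg]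
  · refine ⟨?_, fun h => absurd h hs⟩
    have hs' : 1 - t ^ 2 ≠ 0 := fun h => hs (by linear_combination -h)
    have hy0 : (itA t k).2 = 0 := by
      have : (itA t k).2 * (1 - t ^ 2) = 0 := by linear_combination ea2 - t * ea1
      rcases mul_eq_zero.1 this with h | h
      · exact h
      · exact absurd h hs'
    have hx1 : (itA t k).1 = 1 := by
      rw [hy0] at ea1
      linear_combination ea1
    obtain ⟨T, hT⟩ : ∃ T : F, T = 4 * t ^ 2 - 2 := ⟨_, rfl⟩
    have t0 : t = 0 → Sp (t ^ 2) := fun h => Or.inl (by rw [h]; ring)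
    have T0 : T = 0 → Sp (t ^ 2) := fun h => Or.inr (Or.inr (Or.inr (Or.inl (by
      rw [hT] at h
      have h' : (2 : F) * (2 * t ^ 2 - 1) = 0 := by linear_combination h
      rcases mul_eq_zero.1 h' with h'' | h''
      · exact absurd h'' h2
      · linear_combination h''))))
    interval_cases k
    · -- k = 1
      have Y : (itA t 1).2 = -2 * t := by simp [itA]
      rw [Y] at hy0
      apply t0
      rcases mul_eq_zero.1 hy0 with h | h
      · exact absurd (neg_eq_zero.1 h) h2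
      · exact h
    · -- k = 2
      have Y : (itA t 2).2 = -2 * t * T := by rw [hT]; simp [itA]; ring
      rw [Y] at hy0
      rcases mul_eq_zero.1 hy0 with h | h
      · rcases mul_eq_zero.1 h with h' | h'
        · exact absurd (neg_eq_zero.1 h') h2
        · exact t0 h'
      · exact T0 h
    · -- k = 3
      have Y : (itA t 3).2 = -2 * t * (T ^ 2 - 1) := by rw [hT]; simp [itA]; ring
      have X : (itA t 3).1 = (T ^ 2 - 1) * (T + 1) - T := by rw [hT]; simp [itA]; ring
      rw [Y] at hy0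
      rw [X] at hx1
      rcases mul_eq_zero.1 hy0 with h | h
      · rcases mul_eq_zero.1 h with h' | h'
        · exact absurd (neg_eq_zero.1 h') h2
        · exact t0 h'
      · refine Or.inr (Or.inr (Or.inl ?_))
        have hT1 : T + 1 = 0 := by linear_combination (T + 1) * h - hx1
        rw [hT] at hT1
        linear_combination hT1
    · -- k = 4
      have Y : (itA t 4).2 = -2 * t * (T * (T ^ 2 - 2)) := by rw [hT]; simp [itA]; ring
      have X : (itA t 4).1 = (T * (T ^ 2 - 2)) * (T + 1) - (T ^ 2 - 1) := by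
        rw [hT]; simp [itA]; ring
      rw [Y] at hy0
      rw [X] at hx1
      rcases mul_eq_zero.1 hy0 with h | h
      · rcases mul_eq_zero.1 h with h' | h'
        · exact absurd (neg_eq_zero.1 h') h2
        · exact t0 h'
      · rcases mul_eq_zero.1 h with h' | h'
        · exact T0 h'
        · exfalso
          have : (2 : F) = 0 := by linear_combination (T + 1) * h - hx1 - h'
          exact h2 this
    · -- k = 5
      have Y : (itA t 5).2 = -2 * t * (T ^ 4 - 3 * T ^ 2 + 1) := by rw [hT]; simp [itA]; ring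
      have X : (itA t 5).1 = (T ^ 4 - 3 * T ^ 2 + 1) * (T + 1) - (T ^ 3 - 2 * T) := by
        rw [hT]; simp [itA]; ring
      rw [Y] at hy0
      rw [X] at hx1
      rcases mul_eq_zero.1 hy0 with h | h
      · rcases mul_eq_zero.1 h with h' | h'
        · exact absurd (neg_eq_zero.1 h') h2
        · exact t0 h'
      · refine Or.inr (Or.inr (Or.inr (Or.inr ?_)))
        have hg : T ^ 3 - 2 * T + 1 = 0 := by linear_combination (T + 1) * h - hx1
        have hq : T ^ 2 + T - 1 = 0 := by linear_combination T * hg - h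
        rw [hT] at hq
        linear_combination hq

end Cfsg.Agent.Lib.Helper6.FrCLeaf


end Cfsg.Agent.Lib.Helper11.Om11F
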