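import Cfsg.Agent.Lib.Helper11.Om11F.H17_FrCDefs

set_option linter.dupNamespace false
set_option linter.ambiguousOpen false

namespace Cfsg.Agent.Lib.Helper11.Om11F

/-!
helper1, CORE13 (S5679/S5696): small toolkit (dot products, `e i`, `VT`, `supp`).
-/

set_option autoImplicit false
set_option linter.unusedSectionVars false
set_option linter.unusedVariables false

namespace Cfsg.Agent.Lib.Helper1.FrCLeaf
open Cfsg.Agent.Lib.Helper1.FrCLeaf

open Module QuadraticMap Matrix Cfsg.Agent.Lib.Helper25.CD Cfsg.Agent.Lib.Helper25.Spin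
  Cfsg.Agent.Lib.Helper5.NSMax Cfsg.Agent.Lib.Helper5.PairMax Cfsg.Agent.Lib.Helper17.OC2
  Cfsg.Agent.Lib.Helper29.FrStd Cfsg.Agent.Lib.Helper11.Mono Cfsg.Agent.Lib.Helper17.FrC
open _root_.Cfsg.Agent.Lib.Helper25.CD _root_.Cfsg.Agent.Lib.Helper25.Spin _root_.Cfsg.Agent.Lib.Helper5.NSMax _root_.Cfsg.Agent.Lib.Helper5.PairMax _root_.Cfsg.Agent.Lib.Helper17.OC2 _root_.Cfsg.Agent.Lib.Helper29.FrStd _root_.Cfsg.Agent.Lib.Helper11.Mono

variable {κ : Type} [Fintype κ] [DecidableEq κ] {F : Type*} [Field F] [Fintype F]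
  {c : F} {M : Subgroup ↥(Cfsg.isometryGroup F ⇑(stdQ κ F c))}

lemma stdQ_dot (c : F) (x : κ → F) : stdQ κ F c x = c * (x ⬝ᵥ x) := by
  rw [stdQ_apply]
  rfl

lemma polar_dot (c : F) (x y : κ → F) : polar (stdQ κ F c) x y = 2 * c * (x ⬝ᵥ y) := by
  rw [polar_stdQ]
  rfl

/-- isometries of `stdQ` preserve the dot product -/
lemma dot_toOG (hc : c ≠ 0) (h2 : (2 : F) ≠ 0) (g : ↥(Cfsg.isometryGroup F ⇑(stdQ κ F c)))
    (x y : κ → F) : toOG (stdQ κ F c) g x ⬝ᵥ toOG (stdQ κ F c) g y = x ⬝ᵥ y := by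
  have hg := mem_OG.1 (toOG_mem_OG (stdQ κ F c) g)
  have hp : polar (stdQ κ F c) (toOG (stdQ κ F c) g x) (toOG (stdQ κ F c) g y) =
      polar (stdQ κ F c) x y := by
    unfold QuadraticMap.polar
    rw [← map_add, hg, hg, hg]
  rw [polar_dot, polar_dot] at hp
  exact mul_left_cancel₀ (mul_ne_zero h2 hc) hp

lemma dot_e_right (x : κ → F) (i : κ) : x ⬝ᵥ (e i : κ → F) = x i := by
  unfold e
  rw [dotProduct_single, mul_one]

lemma dot_e_left (x : κ → F) (i : κ) : (e i : κ → F) ⬝ᵥ x = x i := by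
  unfold e
  rw [single_dotProduct, one_mul]

lemma e_apply_same (i : κ) : (e i : κ → F) i = 1 := by
  unfold e
  rw [Pi.single_eq_same]

lemma e_apply_ne {i l : κ} (h : l ≠ i) : (e i : κ → F) l = 0 := by
  unfold e
  rw [Pi.single_eq_of_ne h]

lemma e_dot_e_same (i : κ) : (e i : κ → F) ⬝ᵥ e i = 1 := by
  rw [dot_e_left, e_apply_same]

lemma e_dot_e_ne {i j : κ} (h : i ≠ j) : (e i : κ → F) ⬝ᵥ e j = 0 := by
  rw [dot_e_left, e_apply_ne h]

lemma e_mem_VT {T : Finset κ} {i : κ} (hi : i ∈ T) : (e i : κ → F) ∈ VT T := by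
  intro l hl
  exact e_apply_ne (fun h => hl (h ▸ hi))

/-- a set smaller than `κ` misses a point -/
lemma exists_notMem (S : Finset κ) (hS : S.card < Fintype.card κ) : ∃ l, l ∉ S := by
  by_contra hcon
  push Not at hcon
  have : S = Finset.univ := Finset.eq_univ_iff_forall.2 hcon
  rw [this, Finset.card_univ] at hS
  exact lt_irrefl _ hS

/-- the action of `toOG` on `e i` is the `i`-th column -/
lemma toOG_e_apply (g : ↥(Cfsg.isometryGroup F ⇑(stdQ κ F c))) (i k : κ) :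
    toOG (stdQ κ F c) g (e i) k = ((g : GL κ F) : Matrix κ κ F) k i := by
  rw [toOG_apply]
  unfold e
  rw [Matrix.mulVec_single_one]
  rfl

end Cfsg.Agent.Lib.Helper1.FrCLeaf


end Cfsg.Agent.Lib.Helper11.Om11F
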