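import Cfsg.Agent.Lib.Helper11.Om11F.H17_FrCDefs
import Cfsg.Agent.Lib.Helper11.Om11F.H1_FrCTools

set_option linter.dupNamespace false
set_option linter.ambiguousOpen false

namespace Cfsg.Agent.Lib.Helper11.Om11F

/-!
helper1, CORE13 (S5679/S5696): three vectors with non-singular Gram matrix (finrank, non-degeneracy, irreducibility),
sums of two squares, `3 ≠ 0`.
-/

set_option autoImplicit false
set_option linter.unusedSectionVars false
set_option linter.unusedVariables false

namespace Cfsg.Agent.Lib.Helper1.FrCLeaf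
open Cfsg.Agent.Lib.Helper1.FrCLeaf

open Module QuadraticMap Matrix Cfsg.Agent.Lib.Helper25.CD Cfsg.Agent.Lib.Helper25.Spin
  Cfsg.Agent.Lib.Helper5.NSMax Cfsg.Agent.Lib.Helper5.PairMax Cfsg.Agent.Lib.Helper17.OC2
  Cfsg.Agent.Lib.Helper29.FrStd Cfsg.Agent.Lib.Helper11.Mono Cfsg.Agent.Lib.Helper17.FrC
open _root_.Cfsg.Agent.Lib.Helper25.CD _root_.Cfsg.Agent.Lib.Helper25.Spin _root_.Cfsg.Agent.Lib.Helper5.NSMax _root_.Cfsg.Agent.Lib.Helper5.PairMax _root_.Cfsg.Agent.Lib.Helper17.OC2 _root_.Cfsg.Agent.Lib.Helper29.FrStd _root_.Cfsg.Agent.Lib.Helper11.Mono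

variable {κ : Type} [Fintype κ] [DecidableEq κ] {F : Type*} [Field F] [Fintype F]
  {c : F} {M : Subgroup ↥(Cfsg.isometryGroup F ⇑(stdQ κ F c))}

/-- every element of a finite field is a sum of two squares -/
theorem exists_two_squares (x : F) : ∃ a b : F, a ^ 2 + b ^ 2 = x := by
  classical
  by_cases h2 : ringChar F = 2
  · obtain ⟨a, ha⟩ := FiniteField.isSquare_of_char_two h2 x
    refine ⟨a, 0, ?_⟩
    rw [ha]; ring
  · have hodd : Fintype.card F % 2 = 1 := FiniteField.odd_card_of_char_ne_two h2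
    obtain ⟨a, b, hab⟩ := FiniteField.exists_root_sum_quadratic
      (f := (Polynomial.X : Polynomial F) ^ 2) (g := Polynomial.X ^ 2 - Polynomial.C x)
      (Polynomial.degree_X_pow 2) (Polynomial.degree_X_pow_sub_C (by decide) _) hodd
    refine ⟨a, b, ?_⟩
    simp only [Polynomial.eval_pow, Polynomial.eval_X, Polynomial.eval_sub, Polynomial.eval_C] at hab
    linear_combination hab

/-- in a field of prime order `p`, a natural number `n` with `0 < n < p` is non-zero -/
lemma natCast_ne_zero_of_lt (hp : (Fintype.card F).Prime) {n : ℕ} (hn0 : 0 < n)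
    (hn : n < Fintype.card F) : ((n : ℕ) : F) ≠ 0 := by
  intro h0
  obtain ⟨p, hpc⟩ := CharP.exists F
  have hdvd : p ∣ n := (CharP.cast_eq_zero_iff F p n).1 h0
  have hcard : (Fintype.card F : F) = 0 := Nat.cast_card_eq_zero F
  have hdvd2 : p ∣ Fintype.card F := (CharP.cast_eq_zero_iff F p _).1 hcard
  have hp' : p.Prime := by
    rcases CharP.char_is_prime_or_zero F p with h' | h'
    · exact h'
    · exfalso
      rw [h'] at hdvd
      have := Nat.eq_zero_of_zero_dvd hdvd
      omega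
  have hpc' : p = Fintype.card F := (Nat.prime_dvd_prime_iff_eq hp' hp).1 hdvd2
  have := Nat.le_of_dvd hn0 hdvd
  omega

lemma three_ne_zero' (hp : (Fintype.card F).Prime) (h5 : 5 ≤ Fintype.card F) : (3 : F) ≠ 0 := by
  have := natCast_ne_zero_of_lt hp (n := 3) (by norm_num) (by omega)
  exact_mod_cast this

lemma five_ne_zero' (hp : (Fintype.card F).Prime) (h7 : 7 ≤ Fintype.card F) : (5 : F) ≠ 0 := by
  have := natCast_ne_zero_of_lt hp (n := 5) (by norm_num) (by omega)
  exact_mod_cast this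

/-- the Gram matrix of three vectors -/
def gram (v : Fin 3 → κ → F) : Matrix (Fin 3) (Fin 3) F := Matrix.of fun i j => v i ⬝ᵥ v j

lemma sum_dot (v : Fin 3 → κ → F) (a : Fin 3 → F) (w : κ → F) :
    (∑ i, a i • v i) ⬝ᵥ w = ∑ i, a i * (v i ⬝ᵥ w) := by
  rw [sum_dotProduct]
  apply Finset.sum_congr rfl
  intro i _
  rw [smul_dotProduct, smul_eq_mul]

lemma gram_key {v : Fin 3 → κ → F} (hdet : (gram v).det ≠ 0) (a : Fin 3 → F)
    (h : ∀ j, (∑ i, a i • v i) ⬝ᵥ v j = 0) : a = 0 := by
  apply Matrix.eq_zero_of_vecMul_eq_zero hdet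
  funext j
  have := h j
  rw [sum_dot] at this
  rw [Pi.zero_apply, ← this]
  rfl

lemma gram_li {v : Fin 3 → κ → F} (hdet : (gram v).det ≠ 0) : LinearIndependent F v := by
  rw [Fintype.linearIndependent_iff]
  intro a ha i
  have := gram_key hdet a (fun j => by rw [ha, zero_dotProduct])
  rw [this]
  rfl

lemma gram_finrank {v : Fin 3 → κ → F} (hdet : (gram v).det ≠ 0) :
    finrank F (Submodule.span F (Set.range v)) = 3 := by
  rw [finrank_span_eq_card (gram_li hdet), Fintype.card_fin]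

lemma gram_nondeg {v : Fin 3 → κ → F} (hdet : (gram v).det ≠ 0) :
    ∀ u ∈ Submodule.span F (Set.range v),
      (∀ w ∈ Submodule.span F (Set.range v), u ⬝ᵥ w = 0) → u = 0 := by
  intro u hu hperp
  obtain ⟨a, rfl⟩ := (Submodule.mem_span_range_iff_exists_fun F).1 hu
  have := gram_key hdet a (fun j => hperp _ (Submodule.subset_span ⟨j, rfl⟩))
  rw [this]
  simp

lemma gram_irred {v : Fin 3 → κ → F} (hdet : (gram v).det ≠ 0)
    (hconn : ∀ i, ∃ i', i' ≠ i ∧ v i' ⬝ᵥ v i ≠ 0) :
    ∀ w ∈ Submodule.span F (Set.range v), w ≠ 0 →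
      ∃ x ∈ Set.range v, x ⬝ᵥ w ≠ 0 ∧ w ∉ Submodule.span F {x} := by
  intro w hw hw0
  by_contra hcon
  push Not at hcon
  have hli := gram_li hdet
  by_cases hA : ∃ i, w ∈ Submodule.span F {v i}
  · obtain ⟨i, hi⟩ := hA
    obtain ⟨s, rfl⟩ := Submodule.mem_span_singleton.1 hi
    have hs : s ≠ 0 := by
      rintro rfl
      exact hw0 (zero_smul _ _)
    obtain ⟨i', hii', hne⟩ := hconn i
    have h1 : v i' ⬝ᵥ (s • v i) ≠ 0 := by
      rw [dotProduct_smul, smul_eq_mul]
      exact mul_ne_zero hs hne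
    have h2 := hcon (v i') ⟨i', rfl⟩ h1
    obtain ⟨s', hs'⟩ := Submodule.mem_span_singleton.1 h2
    -- contradiction with linear independence
    have hrel : ∑ x, (Pi.single i' s' - Pi.single i s : Fin 3 → F) x • v x = 0 := by
      simp only [Pi.sub_apply, sub_smul, Finset.sum_sub_distrib]
      rw [Finset.sum_eq_single i', Finset.sum_eq_single i]
      · rw [Pi.single_eq_same, Pi.single_eq_same, hs', sub_self]
      · intro x _ hx
        rw [Pi.single_eq_of_ne hx, zero_smul]
      · intro hx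
        exact absurd (Finset.mem_univ _) hx
      · intro x _ hx
        rw [Pi.single_eq_of_ne hx, zero_smul]
      · intro hx
        exact absurd (Finset.mem_univ _) hx
    have := (Fintype.linearIndependent_iff.1 hli) _ hrel i
    rw [Pi.sub_apply, Pi.single_eq_of_ne (Ne.symm hii'), Pi.single_eq_same, zero_sub, neg_eq_zero] at this
    exact hs this
  · push Not at hA
    apply hw0
    apply gram_nondeg hdet w hw
    intro w' hw'
    have hall : ∀ i, v i ⬝ᵥ w = 0 := by
      intro i
      by_contra hne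
      exact hA i (hcon (v i) ⟨i, rfl⟩ hne)
    obtain ⟨a, rfl⟩ := (Submodule.mem_span_range_iff_exists_fun F).1 hw'
    rw [dotProduct_comm, sum_dot]
    apply Finset.sum_eq_zero
    intro i _
    rw [hall i, mul_zero]

end Cfsg.Agent.Lib.Helper1.FrCLeaf


end Cfsg.Agent.Lib.Helper11.Om11F
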