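import Cfsg.Agent.Lib.Helper17.OC2Defs
import Cfsg.Agent.Lib.Helper29.FrStdDefs

set_option linter.dupNamespace false
set_option linter.ambiguousOpen false

namespace Cfsg.Agent.Lib.Helper11.Om11F

/-!
# CORE13 of the orthogonal frame rows S5679 / S5696 (helper17): definitions

Standard model of helper29: `stdQ κ F c = c * Σ x_i²` on `κ → F`, `card κ = 13`, `F` a field of odd prime order.
`M` is a subgroup of `Ω` containing all monomial elements of `Ω`.  A *root* is a unit vector `a` (`a ⬝ᵥ a = 1`)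
with `-r_a ∈ M`.  Paper proof: notes/S5679_core_plan.md.
-/

set_option autoImplicit false
set_option linter.unusedSectionVars false

namespace Cfsg.Agent.Lib.Helper17.FrC
open Cfsg.Agent.Lib.Helper17.FrC
open _root_.Cfsg.Agent.Lib.Helper17

open Module QuadraticMap Matrix Cfsg.Agent.Lib.Helper25.CD Cfsg.Agent.Lib.Helper25.Spin
  Cfsg.Agent.Lib.Helper5.NSMax Cfsg.Agent.Lib.Helper5.PairMax Cfsg.Agent.Lib.Helper17.OC2
  Cfsg.Agent.Lib.Helper29.FrStd Cfsg.Agent.Lib.Helper11.Mono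
open _root_.Cfsg.Agent.Lib.Helper25.CD _root_.Cfsg.Agent.Lib.Helper25.Spin _root_.Cfsg.Agent.Lib.Helper5.NSMax _root_.Cfsg.Agent.Lib.Helper5.PairMax _root_.Cfsg.Agent.Lib.Helper17.OC2 _root_.Cfsg.Agent.Lib.Helper29.FrStd _root_.Cfsg.Agent.Lib.Helper11.Mono

variable {κ : Type} [Fintype κ] [DecidableEq κ] {F : Type*} [Field F] [Fintype F]

/-- the standard basis vector -/
def e (i : κ) : κ → F := Pi.single i 1

/-- the coordinate subspace `V_T = {x | x l = 0 for l ∉ T}` -/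
def VT (T : Finset κ) : Submodule F (κ → F) where
  carrier := {x | ∀ l, l ∉ T → x l = 0}
  add_mem' := fun {x y} hx hy l hl => by
    rw [Pi.add_apply, hx l hl, hy l hl, add_zero]
  zero_mem' := fun _ _ => rfl
  smul_mem' := fun a x hx l hl => by
    rw [Pi.smul_apply, hx l hl, smul_zero]

lemma mem_VT {T : Finset κ} {x : κ → F} : x ∈ VT T ↔ ∀ l, l ∉ T → x l = 0 := Iff.rfl

open Classical in
/-- the support of a vector -/
noncomputable def supp (x : κ → F) : Finset κ := Finset.univ.filter (fun l => x l ≠ 0)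

lemma mem_supp {x : κ → F} {l : κ} : l ∈ supp x ↔ x l ≠ 0 := by
  classical
  unfold supp
  rw [Finset.mem_filter]
  exact ⟨fun h => h.2, fun h => ⟨Finset.mem_univ _, h⟩⟩

/-- the sign change at the coordinate `i` -/
def flip (i : κ) (x : κ → F) : κ → F := Function.update x i (-(x i))

/-- a *root*: a unit vector `a` with `-r_a ∈ M` -/
def Rt (c : F) (M : Subgroup ↥(Cfsg.isometryGroup F ⇑(stdQ κ F c))) (a : κ → F) : Prop :=
  a ⬝ᵥ a = 1 ∧ negRefl (stdQ κ F c) a ∈ M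

/-- `M` acts transitively on the vectors of each non-zero norm of `U`, by elements fixing `U^⊥` pointwise -/
def TransU (c : F) (M : Subgroup ↥(Cfsg.isometryGroup F ⇑(stdQ κ F c))) (U : Submodule F (κ → F)) : Prop :=
  ∀ u ∈ U, ∀ v ∈ U, u ⬝ᵥ u = v ⬝ᵥ v → u ⬝ᵥ u ≠ 0 →
    ∃ g ∈ M, toOG (stdQ κ F c) g u = v ∧
      ∀ w : κ → F, (∀ x ∈ U, w ⬝ᵥ x = 0) → toOG (stdQ κ F c) g w = w

/-- the hub: `TransU` for every coordinate 3-space -/
def Win3 (c : F) (M : Subgroup ↥(Cfsg.isometryGroup F ⇑(stdQ κ F c))) : Prop :=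
  ∀ T : Finset κ, T.card = 3 → TransU c M (VT T)

/-- the *special* values of `cos²`: `0, 1, 1/4, 1/2, (3 ± √5)/8` -/
def Sp (t : F) : Prop := t = 0 ∨ t = 1 ∨ 4 * t = 1 ∨ 2 * t = 1 ∨ 16 * t ^ 2 - 12 * t + 1 = 0

/-- a vector of type `B_n`: `± e_i` or `(± e_i ± e_j)/√2` -/
def IsB (a : κ → F) : Prop :=
  (∃ i, a = e i ∨ a = -e i) ∨
    ∃ i j, i ≠ j ∧ 2 * a i ^ 2 = 1 ∧ 2 * a j ^ 2 = 1 ∧ ∀ l, l ≠ i → l ≠ j → a l = 0

/-- the standing hypotheses of CORE13 -/
structure Ctx (c : F) (M : Subgroup ↥(Cfsg.isometryGroup F ⇑(stdQ κ F c))) : Prop where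
  hc : c ≠ 0
  prime : (Fintype.card F).Prime
  h2 : (2 : F) ≠ 0
  card : Fintype.card κ = 11
  le : M ≤ Cfsg.Omega F ⇑(stdQ κ F c)
  mono : ∀ g ∈ Cfsg.Omega F ⇑(stdQ κ F c), IsMono (((g : GL κ F)) : Matrix κ κ F) → g ∈ M

/-- an abstract *root system* in the standard coordinates: the closure properties of the set of roots that do not
mention the group `M` (the arithmetic leaves are stated for such an `R`) -/
structure Sys (R : (κ → F) → Prop) : Prop where
  unit : ∀ a, R a → a ⬝ᵥ a = 1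
  frame : ∀ i, R (e i)
  neg : ∀ a, R a → R (-a)
  flip : ∀ a i, R a → R (flip i a)
  perm : ∀ a (σ : Equiv.Perm κ), Equiv.Perm.sign σ = 1 → R a → R (a ∘ σ)
  refl : ∀ a b, R a → R b → R (a - (2 * (a ⬝ᵥ b)) • b)

/-- the singular "pencil direction" data: `z` singular, non-zero, with `z m = 0`, and all Siegel elements
`egen z (s • e_m)` lie in `M` -/
def PZ (c : F) (M : Subgroup ↥(Cfsg.isometryGroup F ⇑(stdQ κ F c))) (m : κ) (z : κ → F) : Prop :=
  z m = 0 ∧ z ⬝ᵥ z = 0 ∧ z ≠ 0 ∧ InA (stdQ κ F c) M z (e m)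

/-- the conclusion *Small* of the Dickson bridge: every element of the group generated by the `-r_x`, `x ∈ R`,
has order `≤ 5` and `≠ p` on `U` -/
def Small (c : F) (R : Set (κ → F)) (U : Submodule F (κ → F)) : Prop :=
  ∀ g ∈ Subgroup.closure ((negRefl (stdQ κ F c)) '' R), ∃ k : ℕ, 1 ≤ k ∧ k ≤ 5 ∧ k ≠ Fintype.card F ∧
    ∀ u ∈ U, toOG (stdQ κ F c) (g ^ k) u = u

end Cfsg.Agent.Lib.Helper17.FrC


end Cfsg.Agent.Lib.Helper11.Om11F
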