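import Cfsg.Agent.Lib.Helper11.Om11F.H24_FrCGrow
import Cfsg.Agent.Lib.Helper11.Om11F.H15_FrCS

set_option linter.dupNamespace false
set_option linter.ambiguousOpen false

namespace Cfsg.Agent.Lib.Helper11.Om11F

/-!
# CORE13 (S5679 + S5696; helper17's market): leaf G3 `all_rt_of_win3` (exact signature)
-/

set_option autoImplicit false
set_option linter.unusedSectionVars false
set_option linter.unusedVariables false

namespace Cfsg.Agent.Lib.Helper24.FrCLeaf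
open Cfsg.Agent.Lib.Helper24.FrCLeaf

open Module QuadraticMap Matrix Cfsg.Agent.Lib.Helper25.CD Cfsg.Agent.Lib.Helper25.Spin
  Cfsg.Agent.Lib.Helper5.NSMax Cfsg.Agent.Lib.Helper5.PairMax Cfsg.Agent.Lib.Helper17.OC2
  Cfsg.Agent.Lib.Helper29.FrStd Cfsg.Agent.Lib.Helper11.Mono Cfsg.Agent.Lib.Helper17.FrC
open _root_.Cfsg.Agent.Lib.Helper25.CD _root_.Cfsg.Agent.Lib.Helper25.Spin _root_.Cfsg.Agent.Lib.Helper5.NSMax _root_.Cfsg.Agent.Lib.Helper5.PairMax _root_.Cfsg.Agent.Lib.Helper17.OC2 _root_.Cfsg.Agent.Lib.Helper29.FrStd _root_.Cfsg.Agent.Lib.Helper11.Mono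

variable {κ : Type} [Fintype κ] [DecidableEq κ] {F : Type*} [Field F] [Fintype F]
  {c : F} {M : Subgroup ↥(Cfsg.isometryGroup F ⇑(stdQ κ F c))}

/-- G3.  `Win3` makes every unit vector a root -/
theorem all_rt_of_win3 (h : Ctx c M) (h5 : 5 ≤ Fintype.card F) (hw : Win3 c M) :
    ∀ x : κ → F, x ⬝ᵥ x = 1 → Rt c M x :=
  all_rt_of_win3_core h h5 hw (fun i => Cfsg.Agent.Lib.Helper15.FrCLeaf.rt_e h i)
    (fun g hg a ha => Cfsg.Agent.Lib.Helper15.FrCLeaf.rt_conj h hg ha)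

end Cfsg.Agent.Lib.Helper24.FrCLeaf


end Cfsg.Agent.Lib.Helper11.Om11F
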