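import Cfsg.Agent.Lib.Helper11.Om11F.H17_FrCDefs
import Cfsg.Agent.Lib.Helper17.OC2Tool
import Cfsg.Agent.Lib.Helper29.Fr2Std
import Cfsg.Agent.Lib.Helper24.FrCUnit
import Cfsg.Agent.Lib.Helper11.Om11F.H24_FrCGrow

set_option linter.dupNamespace false
set_option linter.ambiguousOpen false

namespace Cfsg.Agent.Lib.Helper11.Om11F

/-!
# CORE13 (S5679 + S5696; helper17's market): leaves G4 `inA_of_all_rt` and G5 `omega_le_of_all_rt`
-/

set_option autoImplicit false
set_option linter.unusedSectionVars false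
set_option linter.unusedVariables false

namespace Cfsg.Agent.Lib.Helper24.FrCLeaf
open Cfsg.Agent.Lib.Helper24.FrCLeaf
open _root_.Cfsg.Agent.Lib.Helper24

open Module QuadraticMap Matrix Cfsg.Agent.Lib.Helper25.CD Cfsg.Agent.Lib.Helper25.Spin
  Cfsg.Agent.Lib.Helper5.NSMax Cfsg.Agent.Lib.Helper5.PairMax Cfsg.Agent.Lib.Helper17.OC2
  Cfsg.Agent.Lib.Helper29.FrStd Cfsg.Agent.Lib.Helper11.Mono Cfsg.Agent.Lib.Helper17.FrC
open _root_.Cfsg.Agent.Lib.Helper25.CD _root_.Cfsg.Agent.Lib.Helper25.Spin _root_.Cfsg.Agent.Lib.Helper5.NSMax _root_.Cfsg.Agent.Lib.Helper5.PairMax _root_.Cfsg.Agent.Lib.Helper17.OC2 _root_.Cfsg.Agent.Lib.Helper29.FrStd _root_.Cfsg.Agent.Lib.Helper11.Mono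

variable {κ : Type} [Fintype κ] [DecidableEq κ] {F : Type*} [Field F] [Fintype F]
  {c : F} {M : Subgroup ↥(Cfsg.isometryGroup F ⇑(stdQ κ F c))}

theorem gr_stdQ_dot (c : F) (x : κ → F) : stdQ κ F c x = c * (x ⬝ᵥ x) := by
  rw [stdQ_apply]; rfl

theorem gr_polar_dot (c : F) (x y : κ → F) : polar (stdQ κ F c) x y = 2 * c * (x ⬝ᵥ y) := by
  rw [polar_stdQ]; rfl

/-- Step 1 of G4: vectors of non-zero square norm -/
theorem gr_inA_of_sq (h : Ctx c M) (hall : ∀ x : κ → F, x ⬝ᵥ x = 1 → Rt c M x) {z : κ → F}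
    (hz : z ⬝ᵥ z = 0) {y : κ → F} (hzy : z ⬝ᵥ y = 0) {σ : F} (hσ : σ ≠ 0) (hy : y ⬝ᵥ y = σ ^ 2) :
    InA (stdQ κ F c) M z y := by
  have hc := h.hc
  obtain ⟨a, ha⟩ : ∃ a : κ → F, a = σ⁻¹ • y := ⟨_, rfl⟩
  have haa : a ⬝ᵥ a = 1 := by
    rw [ha, smul_dotProduct, dotProduct_smul, hy, smul_eq_mul, smul_eq_mul]
    field_simp
  have hza : z ⬝ᵥ a = 0 := by
    rw [ha, dotProduct_smul, hzy, smul_zero]
  have haz : a ⬝ᵥ z = 0 := by rw [dotProduct_comm]; exact hza
  intro c'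
  obtain ⟨μ, hμ⟩ : ∃ μ : F, μ = c' * σ * c := ⟨_, rfl⟩
  have hbb : (a + μ • z) ⬝ᵥ (a + μ • z) = 1 := by
    simp only [add_dotProduct, dotProduct_add, smul_dotProduct, dotProduct_smul, haa, hza, haz, hz,
      smul_eq_mul]
    ring
  have hra := hall a haa
  have hrb := hall _ hbb
  refine ⟨negRefl (stdQ κ F c) a * negRefl (stdQ κ F c) (a + μ • z), M.mul_mem hra.2 hrb.2, fun x => ?_⟩
  rw [negRefl_mul]
  have hQa : stdQ κ F c a = c := by rw [gr_stdQ_dot, haa, mul_one]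
  have hQz : stdQ κ F c z = 0 := by rw [gr_stdQ_dot, hz, mul_zero]
  have hpza : polar (stdQ κ F c) z a = 0 := by rw [gr_polar_dot, hza, mul_zero]
  rw [Cfsg.Agent.Lib.Helper17.OC2Leaf.refl_pair_eq_egen hc hQa hQz hpza x]
  have : (μ / c) • a = c' • y := by
    rw [ha, hμ, smul_smul]
    congr 1
    field_simp
  rw [this]

/-- G4.  all unit vectors are roots ⟹ every Siegel element centred at a singular `z` lies in `M` -/
theorem inA_of_all_rt (h : Ctx c M) (hall : ∀ x : κ → F, x ⬝ᵥ x = 1 → Rt c M x) {z : κ → F} (hz0 : z ≠ 0)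
    (hz : z ⬝ᵥ z = 0) (v : κ → F) (hzv : z ⬝ᵥ v = 0) : InA (stdQ κ F c) M z v := by
  have hp := h.prime
  have h2 := h.h2
  have hodd : Fintype.card F % 2 = 1 := by
    rcases hp.eq_two_or_odd with h2' | h2'
    · exfalso
      have hch := gr_charP hp
      rw [h2'] at hch
      exact h2 (by exact_mod_cast (CharP.cast_eq_zero F 2))
    · exact h2'
  have hκ : 7 ≤ Fintype.card κ := by rw [h.card]; norm_num
  have hQz : stdQ κ F c z = 0 := by rw [gr_stdQ_dot, hz, mul_zero]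
  have hpol : ∀ y : κ → F, z ⬝ᵥ y = 0 → polar (stdQ κ F c) z y = 0 := by
    intro y hy
    rw [gr_polar_dot, hy, mul_zero]
  -- Step 2: singular vectors
  have step2 : ∀ y : κ → F, z ⬝ᵥ y = 0 → y ⬝ᵥ y = 0 → InA (stdQ κ F c) M z y := by
    intro y hzy hyy
    obtain ⟨w, hww, hzw, hyw⟩ := FrCUnit.exists_unit_perp hodd h2 hκ z y
    have hwy : w ⬝ᵥ y = 0 := by rw [dotProduct_comm]; exact hyw
    have h1 : InA (stdQ κ F c) M z (y + w) := by
      apply gr_inA_of_sq h hall hz (σ := 1) _ one_ne_zero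
      · simp only [add_dotProduct, dotProduct_add, hyy, hyw, hwy, hww]; ring
      · rw [dotProduct_add, hzy, hzw, add_zero]
    have h2' : InA (stdQ κ F c) M z w :=
      gr_inA_of_sq h hall hz hzw one_ne_zero (by rw [hww]; ring)
    have h3 := InA.add hQz (hpol _ (by rw [dotProduct_add, hzy, hzw, add_zero]))
      (hpol _ (by rw [dotProduct_smul, hzw, smul_zero])) h1 (h2'.smul (-1))
    have e : y + w + (-1 : F) • w = y := by module
    rwa [e] at h3
  -- Step 3: the general case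
  obtain ⟨w, hww, hzw, hvw⟩ := FrCUnit.exists_unit_perp hodd h2 hκ z v
  have hwv : w ⬝ᵥ v = 0 := by rw [dotProduct_comm]; exact hvw
  by_cases hν : v ⬝ᵥ v = 1
  · exact gr_inA_of_sq h hall hz hzv one_ne_zero (by rw [hν]; ring)
  · obtain ⟨k, hk⟩ : ∃ k : F, k = (v ⬝ᵥ v - 1) / 2 := ⟨_, rfl⟩
    obtain ⟨u, hu⟩ : ∃ u : F, u = (v ⬝ᵥ v + 1) / 2 := ⟨_, rfl⟩
    have hk0 : k ≠ 0 := by
      rw [hk]
      intro h0
      rw [div_eq_zero_iff] at h0
      rcases h0 with h0 | h0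
      · exact hν (by linear_combination h0)
      · exact h2 h0
    have hzy : z ⬝ᵥ (v + k • w) = 0 := by
      rw [dotProduct_add, dotProduct_smul, hzv, hzw, smul_zero, add_zero]
    have hyy : (v + k • w) ⬝ᵥ (v + k • w) = u ^ 2 := by
      simp only [add_dotProduct, dotProduct_add, smul_dotProduct, dotProduct_smul, hvw, hwv, hww,
        smul_eq_mul]
      rw [hk, hu]
      field_simp
      ring
    have h1 : InA (stdQ κ F c) M z (v + k • w) := by
      by_cases hu0 : u = 0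
      · apply step2 _ hzy
        rw [hyy, hu0]; ring
      · exact gr_inA_of_sq h hall hz hzy hu0 hyy
    have hzkw : z ⬝ᵥ (k • w) = 0 := by rw [dotProduct_smul, hzw, smul_zero]
    have h2' : InA (stdQ κ F c) M z (k • w) := by
      apply gr_inA_of_sq h hall hz hzkw hk0
      rw [smul_dotProduct, dotProduct_smul, hww]
      simp only [smul_eq_mul]
      ring
    have h3 := InA.add hQz (hpol _ hzy)
      (hpol _ (by rw [dotProduct_smul, hzkw, smul_zero])) h1 (h2'.smul (-1))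
    have e : v + k • w + (-1 : F) • k • w = v := by module
    rwa [e] at h3

/-- G5.  all unit vectors are roots ⟹ `Ω ≤ M` -/
theorem omega_le_of_all_rt (h : Ctx c M) (hall : ∀ x : κ → F, x ⬝ᵥ x = 1 → Rt c M x) :
    Cfsg.Omega F ⇑(stdQ κ F c) ≤ M := by
  classical
  have hp := h.prime
  have h2 := h.h2
  have hc := h.hc
  have hodd : Fintype.card F % 2 = 1 := by
    rcases hp.eq_two_or_odd with h2' | h2'
    · exfalso
      have hch := gr_charP hp
      rw [h2'] at hch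
      exact h2 (by exact_mod_cast (CharP.cast_eq_zero F 2))
    · exact h2'
  -- three distinct indices
  obtain ⟨T, -, hT3⟩ := Finset.exists_subset_card_eq (s := (Finset.univ : Finset κ)) (n := 3)
    (by rw [Finset.card_univ, h.card]; norm_num)
  obtain ⟨i, j, k, hij, hik, hjk, -⟩ := Finset.card_eq_three.1 hT3
  obtain ⟨a, b, hab⟩ := gr_two_squares hodd (-1 : F)
  obtain ⟨z₁, hz₁⟩ : ∃ z₁ : κ → F, z₁ = a • e i + b • e j + e k := ⟨_, rfl⟩
  obtain ⟨z₂, hz₂⟩ : ∃ z₂ : κ → F, z₂ = a • e i + b • e j - e k := ⟨_, rfl⟩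
  have hee : ∀ p q : κ, (e p : κ → F) ⬝ᵥ e q = if p = q then 1 else 0 := by
    intro p q
    unfold e
    rw [single_dotProduct, one_mul, Pi.single_apply]
  have n11 : z₁ ⬝ᵥ z₁ = 0 := by
    rw [hz₁]
    simp only [add_dotProduct, dotProduct_add, smul_dotProduct, dotProduct_smul, hee, smul_eq_mul,
      if_true, if_neg hij, if_neg hik, if_neg hjk, if_neg hij.symm, if_neg hik.symm, if_neg hjk.symm]
    linear_combination hab
  have n22 : z₂ ⬝ᵥ z₂ = 0 := by
    rw [hz₂]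
    simp only [add_dotProduct, dotProduct_add, sub_dotProduct, dotProduct_sub, smul_dotProduct,
      dotProduct_smul, hee, smul_eq_mul,
      if_true, if_neg hij, if_neg hik, if_neg hjk, if_neg hij.symm, if_neg hik.symm, if_neg hjk.symm]
    linear_combination hab
  have n12 : z₁ ⬝ᵥ z₂ = -2 := by
    rw [hz₁, hz₂]
    simp only [add_dotProduct, dotProduct_add, sub_dotProduct, dotProduct_sub, smul_dotProduct,
      dotProduct_smul, hee, smul_eq_mul,
      if_true, if_neg hij, if_neg hik, if_neg hjk, if_neg hij.symm, if_neg hik.symm, if_neg hjk.symm]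
    linear_combination hab
  have hz₁0 : z₁ ≠ 0 := by
    intro h0
    rw [h0, zero_dotProduct] at n12
    exact h2 (by linear_combination n12)
  have hz₂0 : z₂ ≠ 0 := by
    intro h0
    rw [h0, dotProduct_zero] at n12
    exact h2 (by linear_combination n12)
  have hQ1 : stdQ κ F c z₁ = 0 := by rw [gr_stdQ_dot, n11, mul_zero]
  have hQ2 : stdQ κ F c z₂ = 0 := by rw [gr_stdQ_dot, n22, mul_zero]
  have h2c : (2 : F) * c ≠ 0 := mul_ne_zero h2 hc
  have key : ∀ z : κ → F, z ≠ 0 → z ⬝ᵥ z = 0 → ∀ v, polar (stdQ κ F c) z v = 0 →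
      InA (stdQ κ F c) M z v := by
    intro z hz0 hzz v hv
    apply inA_of_all_rt h hall hz0 hzz
    rw [gr_polar_dot] at hv
    exact (mul_eq_zero.1 hv).resolve_left h2c
  have hnd := Cfsg.Agent.Lib.Helper29.Fr2Leaf.stdQ_nondeg (ι := κ) h2 hc
  have hg1 := Cfsg.Agent.Lib.Helper5.NDMax.good_of_all hz₁0 hQ1 (key z₁ hz₁0 n11)
  have hg2 := Cfsg.Agent.Lib.Helper5.NDMax.good_of_all hz₂0 hQ2 (key z₂ hz₂0 n22)
  have hall' := Cfsg.Agent.Lib.Helper5.TSMax.all_good_of_opposite (stdQ κ F c) hnd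
    (by rw [h.card]; norm_num) M hg1 hg2 (by
      rw [Cfsg.Agent.Lib.Helper25.PS.ort_mk', gr_polar_dot, n12]
      intro h0
      have : (2 : F) * c * 2 = 0 := by linear_combination -h0
      exact (mul_ne_zero h2c h2) this)
  have := Cfsg.Agent.Lib.Helper5.TSMax.eq_omega_of_all_good (stdQ κ F c) hnd
    (by rw [h.card]; norm_num) M h.le hall'
  rw [this]

end Cfsg.Agent.Lib.Helper24.FrCLeaf


end Cfsg.Agent.Lib.Helper11.Om11F
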