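import Cfsg.Agent.Lib.Helper11.Om11F.H17_FrCDefs
import Cfsg.Agent.Lib.Helper11.Om11F.H9_FrCPencil

set_option linter.dupNamespace false
set_option linter.ambiguousOpen false

namespace Cfsg.Agent.Lib.Helper11.Om11F

/-!
CORE13 (S5679 + S5696), block P3 leaf P3a `p3_all` (helper17's market, notes/S5679_core_leaves.lean):
over `F_3` a root system `Sys R` containing a root of weight 4 contains all unit vectors.
-/

set_option autoImplicit false
set_option linter.unusedSectionVars false
set_option linter.unusedVariables false

namespace Cfsg.Agent.Lib.Helper9.FrCLeaf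
open Cfsg.Agent.Lib.Helper9.FrCLeaf

open Module QuadraticMap Matrix Cfsg.Agent.Lib.Helper25.CD Cfsg.Agent.Lib.Helper25.Spin
  Cfsg.Agent.Lib.Helper5.NSMax Cfsg.Agent.Lib.Helper5.PairMax Cfsg.Agent.Lib.Helper17.OC2
  Cfsg.Agent.Lib.Helper29.FrStd Cfsg.Agent.Lib.Helper11.Mono Cfsg.Agent.Lib.Helper17.FrC
open _root_.Cfsg.Agent.Lib.Helper25.CD _root_.Cfsg.Agent.Lib.Helper25.Spin _root_.Cfsg.Agent.Lib.Helper5.NSMax _root_.Cfsg.Agent.Lib.Helper5.PairMax _root_.Cfsg.Agent.Lib.Helper17.OC2 _root_.Cfsg.Agent.Lib.Helper29.FrStd _root_.Cfsg.Agent.Lib.Helper11.Mono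

variable {κ : Type} [Fintype κ] [DecidableEq κ] {F : Type*} [Field F] [Fintype F]
  {c : F} {M : Subgroup ↥(Cfsg.isometryGroup F ⇑(stdQ κ F c))}

/-- the elements of `F_3` -/
theorem f3_cases (h3 : Fintype.card F = 3) (t : F) : t = 0 ∨ t = 1 ∨ t = -1 := by
  classical
  have hp : (Fintype.card F).Prime := by rw [h3]; norm_num
  have h2 : (2 : F) ≠ 0 := by
    have := natCast_ne_zero_of_lt_card hp (n := 2) (by norm_num) (by omega)
    exact_mod_cast this
  have hne : (1 : F) ≠ -1 := fun h => h2 (by linear_combination h)
  have hcard : ({0, 1, -1} : Finset F).card = 3 := by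
    rw [Finset.card_insert_of_notMem, Finset.card_insert_of_notMem, Finset.card_singleton]
    · simpa using hne
    · simp
  have huniv := Finset.eq_univ_of_card _ (hcard.trans h3.symm)
  have ht : t ∈ ({0, 1, -1} : Finset F) := huniv ▸ Finset.mem_univ t
  simpa using ht

theorem f3_three (h3 : Fintype.card F = 3) : (3 : F) = 0 := by
  have := Nat.cast_card_eq_zero F
  rw [h3] at this
  exact_mod_cast this

theorem f3_sq (h3 : Fintype.card F = 3) {t : F} (ht : t ≠ 0) : t ^ 2 = 1 := by
  rcases f3_cases h3 t with h | h | h
  · exact absurd h ht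
  · rw [h, one_pow]
  · rw [h]; ring

/-- over `F_3`, `x ⬝ᵥ x` is the weight -/
theorem f3_dot_self (h3 : Fintype.card F = 3) (x : κ → F) : x ⬝ᵥ x = ((supp x).card : F) := by
  classical
  unfold dotProduct
  have h1 : ∀ l, x l * x l = if l ∈ supp x then 1 else 0 := by
    intro l
    by_cases hl : x l = 0
    · rw [if_neg (by rw [mem_supp]; exact not_not.mpr hl), hl, mul_zero]
    · rw [if_pos (mem_supp.mpr hl), ← pow_two, f3_sq h3 hl]
  rw [Finset.sum_congr rfl fun l _ => h1 l, Finset.sum_ite_mem, Finset.univ_inter,
    Finset.sum_const, nsmul_eq_mul, mul_one]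

/-- an even permutation mapping the 4-set `S'` onto `S` -/
theorem exists_even_perm (hκ : Fintype.card κ = 11) {S S' : Finset κ} (hS : S.card = 4)
    (hS' : S'.card = 4) :
    ∃ σ : Equiv.Perm κ, Equiv.Perm.sign σ = 1 ∧ ∀ l, σ l ∈ S ↔ l ∈ S' := by
  classical
  let e0 : {x // x ∈ S'} ≃ {x // x ∈ S} := Finset.equivOfCardEq (hS'.trans hS.symm)
  have h0 : ∀ l, e0.extendSubtype l ∈ S ↔ l ∈ S' := by
    intro l
    constructor
    · intro h
      by_contra hl
      exact e0.extendSubtype_not_mem l hl h
    · intro h
      exact e0.extendSubtype_mem l h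
  rcases Int.units_eq_one_or (Equiv.Perm.sign e0.extendSubtype) with h1 | h1
  · exact ⟨e0.extendSubtype, h1, h0⟩
  · -- two points outside S'
    have hc : (Finset.univ \ S').card = 7 := by
      rw [Finset.card_sdiff_of_subset (Finset.subset_univ _), Finset.card_univ, hκ, hS']
    obtain ⟨u, hu, v, hv, huv⟩ := Finset.one_lt_card.mp (by omega : 1 < (Finset.univ \ S').card)
    have hu' : u ∉ S' := (Finset.mem_sdiff.mp hu).2
    have hv' : v ∉ S' := (Finset.mem_sdiff.mp hv).2
    refine ⟨e0.extendSubtype * Equiv.swap u v, ?_, ?_⟩
    · rw [map_mul, h1, Equiv.Perm.sign_swap huv]; rfl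
    · intro l
      rw [Equiv.Perm.mul_apply, h0]
      by_cases hlu : l = u
      · subst hlu; rw [Equiv.swap_apply_left]; tauto
      · by_cases hlv : l = v
        · subst hlv; rw [Equiv.swap_apply_right]; tauto
        · rw [Equiv.swap_apply_of_ne_of_ne hlu hlv]

/-- all vectors of weight 4 are roots once one of them is -/
theorem weight_four_mem (h3 : Fintype.card F = 3) (hκ : Fintype.card κ = 11) {R : (κ → F) → Prop}
    (hS : Sys R) {a : κ → F} (ha : R a) (hw : (supp a).card = 4) {x : κ → F}
    (hx : (supp x).card = 4) : R x := by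
  classical
  obtain ⟨σ, hσ1, hσ⟩ := exists_even_perm hκ hw hx
  have hy : R (a ∘ σ) := hS.perm a σ hσ1 ha
  have hsupp : ∀ l, (a ∘ σ) l ≠ 0 ↔ x l ≠ 0 := by
    intro l
    rw [Function.comp_apply, ← mem_supp, hσ, mem_supp]
  obtain ⟨y, hydef⟩ : ∃ y : κ → F, y = a ∘ σ := ⟨_, rfl⟩
  rw [← hydef] at hy hsupp
  obtain ⟨T, hTdef⟩ : ∃ T : Finset κ, T = Finset.univ.filter fun l => x l ≠ y l := ⟨_, rfl⟩
  have hmem : ∀ l, l ∈ T ↔ x l ≠ y l := by
    intro l
    rw [hTdef, Finset.mem_filter]
    exact ⟨fun h => h.2, fun h => ⟨Finset.mem_univ _, h⟩⟩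
  have hT := flipT_mem hS hy T
  have hfx : (fun l => if l ∈ T then -y l else y l) = x := by
    funext l
    by_cases hl : x l = y l
    · rw [if_neg (fun h => (hmem l).mp h hl), hl]
    · rw [if_pos ((hmem l).mpr hl)]
      have hx0 : x l ≠ 0 := by
        intro h0
        have : y l = 0 := by
          by_contra h; exact (hsupp l).mp h h0
        exact hl (h0.trans this.symm)
      have hy0 : y l ≠ 0 := (hsupp l).mpr hx0
      rcases f3_cases h3 (x l) with h | h | h <;> rcases f3_cases h3 (y l) with h' | h' | h'
      all_goals first | exact absurd h hx0 | exact absurd h' hy0 | (exfalso; exact hl (h.trans h'.symm)) | (rw [h, h', neg_neg]) | (rw [h, h'])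
  rw [hfx] at hT
  exact hT

/-- P3a.  Over `F_3` the unit vectors are the `±1`-vectors of weight `≡ 1 (3)`.  All weight-4 ones are roots (one of them
is, and `Sys` acts transitively on them); induction on the weight: `a` of weight `w < 13`, `b` of weight 4 meeting the
support of `a` in one coordinate with the same sign: `a - 2 b = a + b` has weight `w + 3`; every vector of weight `w+3`
arises.  -/
theorem p3_all (h3 : Fintype.card F = 3) (hκ : Fintype.card κ = 11) {R : (κ → F) → Prop} (hS : Sys R)
    {a : κ → F} (ha : R a) (hw : (supp a).card = 4) : ∀ x : κ → F, x ⬝ᵥ x = 1 → R x := by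
  classical
  have h30 := f3_three h3
  have key : ∀ n : ℕ, ∀ x : κ → F, (supp x).card = n → x ⬝ᵥ x = 1 → R x := by
    intro n
    induction n using Nat.strong_induction_on with
    | _ n ih =>
      intro x hn hx
      by_cases h5 : 5 ≤ n
      · -- the induction step
        have hpos : 0 < (supp x).card := by omega
        obtain ⟨i0, hi0⟩ := Finset.card_pos.mp hpos
        have hce : ((supp x).erase i0).card = n - 1 := by
          rw [Finset.card_erase_of_mem hi0, hn]
        obtain ⟨T, hTS, hT3⟩ := Finset.exists_subset_card_eq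
          (by omega : 3 ≤ ((supp x).erase i0).card)
        have hi0T : i0 ∉ T := fun h => (Finset.mem_erase.mp (hTS h)).1 rfl
        have hTx : ∀ l, l ∈ T → x l ≠ 0 := fun l hl =>
          mem_supp.mp (Finset.mem_of_mem_erase (hTS hl))
        have hxi0 : x i0 ≠ 0 := mem_supp.mp hi0
        obtain ⟨b, hbdef⟩ : ∃ b : κ → F, b = fun l => if l = i0 then -x i0 else if l ∈ T then x l
          else 0 := ⟨_, rfl⟩
        obtain ⟨a', hadef⟩ : ∃ a' : κ → F, a' = fun l => if l = i0 then -x i0 else if l ∈ T then 0
          else x l := ⟨_, rfl⟩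
        have hb0 : b i0 = -x i0 := by rw [hbdef]; simp only [if_pos]
        have hbT : ∀ l, l ∈ T → b l = x l := by
          intro l hl
          have hne : l ≠ i0 := fun h => hi0T (h ▸ hl)
          rw [hbdef]; simp only [if_neg hne, if_pos hl]
        have hbN : ∀ l, l ≠ i0 → l ∉ T → b l = 0 := by
          intro l h1 h2
          rw [hbdef]; simp only [if_neg h1, if_neg h2]
        have ha0 : a' i0 = -x i0 := by rw [hadef]; simp only [if_pos]
        have haT : ∀ l, l ∈ T → a' l = 0 := by
          intro l hl
          have hne : l ≠ i0 := fun h => hi0T (h ▸ hl)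
          rw [hadef]; simp only [if_neg hne, if_pos hl]
        have haN : ∀ l, l ≠ i0 → l ∉ T → a' l = x l := by
          intro l h1 h2
          rw [hadef]; simp only [if_neg h1, if_neg h2]
        -- supports
        have hsb : supp b = insert i0 T := by
          ext l
          rw [mem_supp, Finset.mem_insert]
          by_cases h1 : l = i0
          · subst h1; rw [hb0]; simp [hxi0]
          · by_cases h2 : l ∈ T
            · rw [hbT l h2]; simp [h2, hTx l h2]
            · rw [hbN l h1 h2]; simp [h1, h2]
        have hsa : supp a' = supp x \ T := by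
          ext l
          rw [mem_supp, Finset.mem_sdiff, mem_supp]
          by_cases h1 : l = i0
          · subst h1; rw [ha0]; simp [hxi0, hi0T]
          · by_cases h2 : l ∈ T
            · rw [haT l h2]; simp [h2]
            · rw [haN l h1 h2]; simp [h2]
        have hcb : (supp b).card = 4 := by
          rw [hsb, Finset.card_insert_of_notMem hi0T, hT3]
        have hTsub : T ⊆ supp x := fun l hl => Finset.mem_of_mem_erase (hTS hl)
        have hca : (supp a').card = n - 3 := by
          rw [hsa, Finset.card_sdiff_of_subset hTsub, hn, hT3]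
        have hRb : R b := weight_four_mem h3 hκ hS ha hw hcb
        have hn1 : ((n : ℕ) : F) = 1 := by rw [← hn, ← f3_dot_self h3]; exact hx
        have haa : a' ⬝ᵥ a' = 1 := by
          rw [f3_dot_self h3, hca]
          have : ((n - 3 : ℕ) : F) = (n : F) - 3 := by
            rw [Nat.cast_sub (by omega)]; norm_num
          rw [this, hn1, h30, sub_zero]
        have hRa : R a' := ih (n - 3) (by omega) a' hca haa
        have hab : a' ⬝ᵥ b = 1 := by
          unfold dotProduct
          rw [Finset.sum_eq_single i0]
          · rw [ha0, hb0, neg_mul_neg, ← pow_two, f3_sq h3 hxi0]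
          · intro l _ h1
            by_cases h2 : l ∈ T
            · rw [haT l h2, zero_mul]
            · rw [hbN l h1 h2, mul_zero]
          · intro h; exact absurd (Finset.mem_univ _) h
        have hfin := hS.refl a' b hRa hRb
        have hxe : a' - (2 * (a' ⬝ᵥ b)) • b = x := by
          rw [hab, mul_one]
          funext l
          rw [Pi.sub_apply, Pi.smul_apply, smul_eq_mul]
          by_cases h1 : l = i0
          · subst h1; rw [ha0, hb0]; ring
          · by_cases h2 : l ∈ T
            · rw [haT l h2, hbT l h2]
              linear_combination (-(x l)) * h30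
            · rw [haN l h1 h2, hbN l h1 h2]; ring
        rw [hxe] at hfin
        exact hfin
      · have hn1 : ((n : ℕ) : F) = 1 := by rw [← hn, ← f3_dot_self h3]; exact hx
        have hn4 : n ≤ 4 := by omega
        interval_cases n
        · exfalso
          rw [Nat.cast_zero] at hn1
          exact zero_ne_one hn1
        · obtain ⟨i, hi⟩ := Finset.card_eq_one.mp hn
          have hxl : ∀ l, l ≠ i → x l = 0 := by
            intro l hl
            by_contra h
            have := mem_supp.mpr h
            rw [hi, Finset.mem_singleton] at this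
            exact hl this
          have hxi : x i ≠ 0 := mem_supp.mp (by rw [hi]; exact Finset.mem_singleton_self i)
          rcases f3_cases h3 (x i) with h | h | h
          · exact absurd h hxi
          · have : x = e i := by
              funext l
              unfold e
              by_cases hl : l = i
              · subst hl; rw [h, Pi.single_eq_same]
              · rw [hxl l hl, Pi.single_eq_of_ne hl]
            rw [this]; exact hS.frame i
          · have : x = -e i := by
              funext l
              rw [Pi.neg_apply]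
              unfold e
              by_cases hl : l = i
              · subst hl; rw [h, Pi.single_eq_same]
              · rw [hxl l hl, Pi.single_eq_of_ne hl, neg_zero]
            rw [this]; exact hS.neg _ (hS.frame i)
        · exfalso
          have : (1 : F) = 0 := by
            have h2 : ((2 : ℕ) : F) = 2 := by norm_num
            rw [h2] at hn1
            linear_combination hn1 - 0 * h30
          exact one_ne_zero this
        · exfalso
          have h2 : ((3 : ℕ) : F) = 3 := by norm_num
          rw [h2, h30] at hn1
          exact zero_ne_one hn1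
        · exact weight_four_mem h3 hκ hS ha hw hn
  intro x hx
  exact key _ x rfl hx

end Cfsg.Agent.Lib.Helper9.FrCLeaf


end Cfsg.Agent.Lib.Helper11.Om11F
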