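import Cfsg.Agent.Lib.Helper11.Om11F.H1_FrCL2
import Cfsg.Agent.Lib.Helper11.Om11F.H1_FrCST
import Cfsg.Agent.Lib.Helper11.Om11F.H11_FrCL1d
import Cfsg.Agent.Lib.Helper11.Om11F.H11_FrCL1z
import Cfsg.Agent.Lib.Helper11.Om11F.H15_FrCH
import Cfsg.Agent.Lib.Helper11.Om11F.H15_FrCS
import Cfsg.Agent.Lib.Helper11.Om11F.H23_FrCA
import Cfsg.Agent.Lib.Helper11.Om11F.H24_FrCG3
import Cfsg.Agent.Lib.Helper11.Om11F.H24_FrCG45
import Cfsg.Agent.Lib.Helper11.Om11F.H27_FrCL1c
import Cfsg.Agent.Lib.Helper11.Om11F.H28_FrCL1b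
import Cfsg.Agent.Lib.Helper11.Om11F.H29_FrCDicksonFinal
import Cfsg.Agent.Lib.Helper11.Om11F.H29_FrCP3
import Cfsg.Agent.Lib.Helper11.Om11F.H4_FrCG12
import Cfsg.Agent.Lib.Helper11.Om11F.H4_FrCIA
import Cfsg.Agent.Lib.Helper11.Om11F.H4_FrCSH
import Cfsg.Agent.Lib.Helper11.Om11F.H6_FrCA6
import Cfsg.Agent.Lib.Helper11.Om11F.H6_FrCA7
import Cfsg.Agent.Lib.Helper11.Om11F.H6_FrCD2
import Cfsg.Agent.Lib.Helper11.Om11F.H9_FrCP3a
import Cfsg.Agent.Lib.Helper11.Om11F.H9_FrCPencil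
import Cfsg.Agent.Lib.Helper11.Om11F.H9_FrCSp
import Cfsg.Agent.Lib.Helper25.SpinForms

set_option linter.dupNamespace false
set_option linter.ambiguousOpen false

namespace Cfsg.Agent.Lib.Helper11.Om11F

set_option autoImplicit false
set_option linter.unusedSectionVars false
set_option linter.unusedVariables false

namespace Cfsg.Agent.Lib.Helper17.FrCMain
open Cfsg.Agent.Lib.Helper17.FrCMain
open _root_.Cfsg.Agent.Lib.Helper17

open Module QuadraticMap Matrix Cfsg.Agent.Lib.Helper25.CD Cfsg.Agent.Lib.Helper25.Spin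
  Cfsg.Agent.Lib.Helper5.NSMax Cfsg.Agent.Lib.Helper5.PairMax Cfsg.Agent.Lib.Helper17.OC2
  Cfsg.Agent.Lib.Helper29.FrStd Cfsg.Agent.Lib.Helper11.Mono Cfsg.Agent.Lib.Helper17.FrC
open _root_.Cfsg.Agent.Lib.Helper25.CD _root_.Cfsg.Agent.Lib.Helper25.Spin _root_.Cfsg.Agent.Lib.Helper5.NSMax _root_.Cfsg.Agent.Lib.Helper5.PairMax _root_.Cfsg.Agent.Lib.Helper17.OC2 _root_.Cfsg.Agent.Lib.Helper29.FrStd _root_.Cfsg.Agent.Lib.Helper11.Mono

open Cfsg.Agent.Lib.Helper1.FrCLeaf (exists_nonB exists_nonframe win3_of_pz_three win3_of_pz_two)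
open Cfsg.Agent.Lib.Helper11.FrCLeaf (vt_facts vt_irred vt_not_small_five)
open Cfsg.Agent.Lib.Helper15.FrCLeaf (perm_mem rt_conj rt_e rt_perm sys_of_ctx win3_of_nonspecial)
open Cfsg.Agent.Lib.Helper23.FrCLeaf (allB_of_special special_kill special_types)
open Cfsg.Agent.Lib.Helper24.FrCLeaf (all_rt_of_win3 inA_of_all_rt omega_le_of_all_rt)
open Cfsg.Agent.Lib.Helper27.FrCLeaf (vt_not_small_seven)
open Cfsg.Agent.Lib.Helper28.FrCLeaf (vt_allB_of_small)
open Cfsg.Agent.Lib.Helper29.FrCLeaf (dickson_bridge p3_weight_four)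
open Cfsg.Agent.Lib.Helper4.FrCLeaf (inA_e_of_inA inA_of_pair pz_three pz_two rt_of_inA rt_of_transU shrink win3_of_one)
open Cfsg.Agent.Lib.Helper6.FrCLeaf (allB_five allB_seven order_pair)
open Cfsg.Agent.Lib.Helper9.FrCLeaf (p3_all pencil pencil_sub sp_add_eq_one sp_facts)

variable {κ : Type} [Fintype κ] [DecidableEq κ] {F : Type*} [Field F] [Fintype F]
  {c : F} {M : Subgroup ↥(Cfsg.isometryGroup F ⇑(stdQ κ F c))}

theorem prime_cases {p : ℕ} (hp : p.Prime) (h5 : 5 ≤ p) : p = 5 ∨ p = 7 ∨ 11 ≤ p := by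
  by_contra hcon
  push Not at hcon
  obtain ⟨h1, h2, h3⟩ := hcon
  have : p = 6 ∨ p = 8 ∨ p = 9 ∨ p = 10 := by omega
  rcases this with rfl | rfl | rfl | rfl <;> revert hp <;> decide

theorem dot_e_left (m : κ) (a : κ → F) : (e m : κ → F) ⬝ᵥ a = a m := by
  unfold e
  rw [single_dotProduct, one_mul]

theorem dot_e_right (m : κ) (a : κ → F) : a ⬝ᵥ (e m : κ → F) = a m := by
  unfold e
  rw [dotProduct_single, mul_one]

/-- L1 -/
theorem win3_of_VT (h : Ctx c M) (h5 : 5 ≤ Fintype.card F) {T : Finset κ} (hT : T.card = 3) {x : κ → F}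
    (hx : Rt c M x) (hxT : x ∈ VT T) (hB : ¬ FrC.IsB x) : Win3 c M := by
  obtain ⟨hspan, hfr, hnd⟩ := vt_facts h hT
  rcases dickson_bridge h h5 {y : κ → F | Rt c M y ∧ y ∈ VT T} (fun y hy => hy.1) (VT T) hspan hfr hnd
    (vt_irred h hT hx hxT hB) with hU | hsm
  · exact win3_of_one h hT hU
  · exfalso
    rcases prime_cases h.prime h5 with h5' | h7 | h11
    · exact vt_not_small_five h h5' hT hx hxT hB hsm
    · exact vt_not_small_seven h h7 hT hx hxT hB hsm
    · apply hB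
      apply vt_allB_of_small h.prime h11 h.card (sys_of_ctx h) hT _ x hx hxT
      intro y y' hy hy' hyT hy'T
      have hmem : negRefl (stdQ κ F c) y * negRefl (stdQ κ F c) y' ∈
          Subgroup.closure ((negRefl (stdQ κ F c)) '' {y : κ → F | Rt c M y ∧ y ∈ VT T}) :=
        Subgroup.mul_mem _ (Subgroup.subset_closure ⟨y, ⟨hy, hyT⟩, rfl⟩)
          (Subgroup.subset_closure ⟨y', ⟨hy', hy'T⟩, rfl⟩)
      obtain ⟨k, hk1, hk5, hkp, hfix⟩ := hsm _ hmem
      exact order_pair h.hc h.prime h5 hy.1 hy'.1 hk1 hk5 hkp (hfix y hyT) (hfix y' hy'T)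

/-- L2 -/
theorem win3_of_pm_one (h : Ctx c M) (h5 : 5 ≤ Fintype.card F) {a : κ → F} {m : κ} (ha : Rt c M a)
    (hm : a m = 1 ∨ a m = -1) (hne : a ≠ e m) (hne' : a ≠ -e m) : Win3 c M := by
  have hS := sys_of_ctx h
  -- reduce to `a m = 1`
  have key : ∀ a : κ → F, Rt c M a → a m = 1 → a ≠ e m → Win3 c M := by
    intro a ha hm hne
    have hP : PZ c M m (a - e m) := by
      refine ⟨?_, ?_, ?_, ?_⟩
      · rw [Pi.sub_apply, hm]
        unfold e
        rw [Pi.single_eq_same, sub_self]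
      · rw [sub_dotProduct, dotProduct_sub, dotProduct_sub, ha.1, dot_e_left, dot_e_right, hm,
          dot_e_left]
        unfold e
        rw [Pi.single_eq_same]
        ring
      · exact sub_ne_zero.2 hne
      · exact inA_of_pair h (rt_e h m) ha (by rw [dot_e_left, hm])
    by_cases hsq : IsSquare (-1 : F)
    · obtain ⟨j₀, hj₀⟩ := hsq
      obtain ⟨k, l, j, hj, hkm, hlm, hkl, hP'⟩ := pz_two h (j₀ := j₀) (by rw [hj₀]; ring) hP
      exact win3_of_pz_two h h5 (fun T hT x hx hxT hB => win3_of_VT h h5 hT hx hxT hB) hj hkm hlm hkl hP'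
    · obtain ⟨k, z', hP', h3⟩ := pz_three h hsq hP
      have h7 : 7 ≤ Fintype.card F := by
        rcases prime_cases h.prime h5 with h5' | h7 | h11
        · exfalso
          apply hsq
          refine ⟨2, ?_⟩
          have h50 : ((5 : ℕ) : F) = 0 := by rw [← h5']; exact Nat.cast_card_eq_zero F
          have : (5 : F) = 0 := by exact_mod_cast h50
          linear_combination -this
        · omega
        · omega
      exact win3_of_pz_three h h7 (fun T hT x hx hxT hB => win3_of_VT h h5 hT hx hxT hB)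
        (dickson_bridge h h5) hP' h3
  rcases hm with hm | hm
  · exact key a ha hm hne
  · apply key (-a) (hS.neg a ha)
    · rw [Pi.neg_apply, hm, neg_neg]
    · intro hcon
      apply hne'
      rw [← hcon, neg_neg]

/-- L3 -/
theorem win3_of_zero_sum (h : Ctx c M) (h5 : 5 ≤ Fintype.card F) {a : κ → F} {T : Finset κ} (ha : Rt c M a)
    (hT0 : ∑ l ∈ T, a l ^ 2 = 0) (h1 : ∃ l ∈ T, a l ≠ 0) (h2 : ∃ l, l ∉ T ∧ a l ≠ 0) : Win3 c M := by
  obtain ⟨l, hlT, hl⟩ := h1
  obtain ⟨l', hl'T, hl'⟩ := h2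
  have hb := pencil_sub h.prime h.h2 (sys_of_ctx h) ha T hT0 (a l)⁻¹
  have hll' : l' ≠ l := fun hcon => hl'T (hcon ▸ hlT)
  apply win3_of_pm_one h h5 hb (m := l)
  · left
    rw [if_pos hlT, inv_mul_cancel₀ hl]
  · intro hcon
    have := congrFun hcon l'
    rw [if_neg hl'T] at this
    unfold e at this
    rw [Pi.single_eq_of_ne hll'] at this
    exact hl' this
  · intro hcon
    have := congrFun hcon l'
    rw [if_neg hl'T] at this
    unfold e at this
    rw [Pi.neg_apply, Pi.single_eq_of_ne hll', neg_zero] at this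
    exact hl' this

/-- the hub for `p ≥ 5` -/
theorem win3 (h : Ctx c M) (h5 : 5 ≤ Fintype.card F)
    (hg : ∃ g ∈ M, ¬ IsMono (((g : GL κ F)) : Matrix κ κ F)) : Win3 c M := by
  by_contra hW
  have hS := sys_of_ctx h
  have hL1 : ∀ (T : Finset κ), T.card = 3 → ∀ x : κ → F, Rt c M x → x ∈ VT T → ¬ FrC.IsB x → Win3 c M :=
    fun T hT x hx hxT hB => win3_of_VT h h5 hT hx hxT hB
  have hL2 : ∀ (a : κ → F) (m : κ), Rt c M a → (a m = 1 ∨ a m = -1) → a ≠ e m → a ≠ -e m → Win3 c M :=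
    fun a m ha hm h1 h2 => win3_of_pm_one h h5 ha hm h1 h2
  have hL3 : ∀ (a : κ → F) (T : Finset κ), Rt c M a → ∑ l ∈ T, a l ^ 2 = 0 → (∃ l ∈ T, a l ≠ 0) →
      (∃ l, l ∉ T ∧ a l ≠ 0) → Win3 c M :=
    fun a T ha h0 h1 h2 => win3_of_zero_sum h h5 ha h0 h1 h2
  have hpm : ∀ (a : κ → F) (m : κ), Rt c M a → (a m = 1 ∨ a m = -1) → a = e m ∨ a = -e m := by
    intro a m ha hm
    by_contra hcon
    push Not at hcon
    exact hW (hL2 a m ha hm hcon.1 hcon.2)
  have h0 : ∀ b, Rt c M b → ∀ T : Finset κ, (∃ l ∈ T, b l ≠ 0) → (∃ l, l ∉ T ∧ b l ≠ 0) →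
      ∑ l ∈ T, b l ^ 2 ≠ 0 := by
    intro b hb T h1 h2 hcon
    exact hW (hL3 b T hb hcon h1 h2)
  have h1 : ∀ b, Rt c M b → ∀ i, Sp (b i ^ 2) := by
    intro b hb i
    by_contra hcon
    exact hW (win3_of_nonspecial h h5 hL1 hL2 hL3 (dickson_bridge h h5) hb hcon)
  have h3 : ∀ T : Finset κ, T.card = 3 → ∀ x, Rt c M x → x ∈ VT T → FrC.IsB x := by
    intro T hT x hx hxT
    by_contra hcon
    exact hW (hL1 T hT x hx hxT hcon)
  obtain ⟨a, ha, hB⟩ := exists_nonB h h5 hg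
  apply hB
  rcases prime_cases h.prime h5 with h5' | h7 | h11
  · exact allB_five h5' h.card hS hpm h0 a ha
  · exact allB_seven h7 h.card hS hpm h0 h3 a ha
  · exact allB_of_special h.prime h11 h.card hS h1 h0 a ha

/-- CORE13 in the `Ctx` form -/
theorem omega_le (h : Ctx c M) (hg : ∃ g ∈ M, ¬ IsMono (((g : GL κ F)) : Matrix κ κ F)) :
    Cfsg.Omega F ⇑(stdQ κ F c) ≤ M := by
  have hp3 : 3 ≤ Fintype.card F := by
    have h2 := h.prime.two_le
    rcases Nat.lt_or_ge (Fintype.card F) 3 with hlt | hge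
    · exfalso
      have h2' : Fintype.card F = 2 := by omega
      apply h.h2
      have h20 : ((2 : ℕ) : F) = 0 := by rw [← h2']; exact Nat.cast_card_eq_zero F
      exact_mod_cast h20
    · exact hge
  by_cases h5 : 5 ≤ Fintype.card F
  · exact omega_le_of_all_rt h (all_rt_of_win3 h h5 (win3 h h5 hg))
  · have h3 : Fintype.card F = 3 := by
      have hp := h.prime
      have : Fintype.card F = 3 ∨ Fintype.card F = 4 := by omega
      rcases this with h3 | h4
      · exact h3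
      · rw [h4] at hp
        exact absurd hp (by decide)
    obtain ⟨g, i, hgM, hne⟩ := exists_nonframe h hg
    have ha := rt_conj h hgM (rt_e h i)
    obtain ⟨b, hb, hb4⟩ := p3_weight_four h h3 ha hne
    exact omega_le_of_all_rt h (p3_all h3 h.card (sys_of_ctx h) hb hb4)

/-- CORE13 -/
theorem coreProp (hp : (Fintype.card F).Prime) (hodd : Odd (Fintype.card F)) {c : F} (hc : c ≠ 0)
    (hκ : Fintype.card κ = 11) : CoreProp κ F c := by
  intro M₀ hM₀ hmono hnon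
  have h2 : (2 : F) ≠ 0 := Cfsg.Agent.Lib.Helper25.Spin.two_ne_zero_of_odd_card hodd
  have hctx : Ctx c (M₀.comap (Cfsg.isometryGroup F ⇑(stdQ κ F c)).subtype) :=
    { hc := hc
      prime := hp
      h2 := h2
      card := hκ
      le := by
        intro g hg
        obtain ⟨g', hg', hgg'⟩ := hM₀ hg
        have : g' = g := Subtype.ext hgg'
        rwa [← this]
      mono := by
        intro g hg hmo
        exact hmono _ ⟨g, hg, rfl⟩ hmo }
  have hnon' : ∃ g ∈ M₀.comap (Cfsg.isometryGroup F ⇑(stdQ κ F c)).subtype,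
      ¬ IsMono (((g : GL κ F)) : Matrix κ κ F) := by
    obtain ⟨g, hg, hmo⟩ := hnon
    obtain ⟨g', hg', hgg'⟩ := hM₀ hg
    refine ⟨g', ?_, ?_⟩
    · change (g' : GL κ F) ∈ M₀
      have : (g' : GL κ F) = g := hgg'
      rw [this]; exact hg
    · have : (g' : GL κ F) = g := hgg'
      rw [this]; exact hmo
  have hle := omega_le hctx hnon'
  rintro x ⟨g, hg, rfl⟩
  exact hle hg

end Cfsg.Agent.Lib.Helper17.FrCMain


end Cfsg.Agent.Lib.Helper11.Om11F
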