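import Cfsg.Agent.Lib.Helper11.Om11F.H17_FrCDefs
import Cfsg.Agent.Lib.Helper11.Om11F.H1_FrCTools
import Cfsg.Agent.Lib.Helper11.Om11F.H1_FrCGram
import Cfsg.Agent.Lib.Helper11.Om11F.H15_FrCS
import Cfsg.Agent.Lib.Helper11.Om11F.H6_FrCD2

set_option linter.dupNamespace false
set_option linter.ambiguousOpen false

namespace Cfsg.Agent.Lib.Helper11.Om11F

/-!
helper1, CORE13 (S5679/S5696) block L2: `win3_of_pz_two`, `win3_of_pz_three`.
-/

set_option autoImplicit false
set_option linter.unusedSectionVars false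
set_option linter.unusedVariables false

namespace Cfsg.Agent.Lib.Helper1.FrCLeaf
open Cfsg.Agent.Lib.Helper1.FrCLeaf

open Module QuadraticMap Matrix Cfsg.Agent.Lib.Helper25.CD Cfsg.Agent.Lib.Helper25.Spin
  Cfsg.Agent.Lib.Helper5.NSMax Cfsg.Agent.Lib.Helper5.PairMax Cfsg.Agent.Lib.Helper17.OC2
  Cfsg.Agent.Lib.Helper29.FrStd Cfsg.Agent.Lib.Helper11.Mono Cfsg.Agent.Lib.Helper17.FrC
open _root_.Cfsg.Agent.Lib.Helper25.CD _root_.Cfsg.Agent.Lib.Helper25.Spin _root_.Cfsg.Agent.Lib.Helper5.NSMax _root_.Cfsg.Agent.Lib.Helper5.PairMax _root_.Cfsg.Agent.Lib.Helper17.OC2 _root_.Cfsg.Agent.Lib.Helper29.FrStd _root_.Cfsg.Agent.Lib.Helper11.Mono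
open Cfsg.Agent.Lib.Helper15.FrCLeaf (rt_e rt_conj)
open Cfsg.Agent.Lib.Helper6.FrCLeaf (order_pair)

variable {κ : Type} [Fintype κ] [DecidableEq κ] {F : Type*} [Field F] [Fintype F]
  {c : F} {M : Subgroup ↥(Cfsg.isometryGroup F ⇑(stdQ κ F c))}

/-- local copy of G1 (two lines from `rt_conj`), so that this file does not wait for the G block -/
lemma rt_of_transU_aux (h : Ctx c M) {U : Submodule F (κ → F)} (hU : TransU c M U) {u v : κ → F}
    (hu : u ∈ U) (hv : v ∈ U) (hru : Rt c M u) (hv1 : v ⬝ᵥ v = 1) : Rt c M v := by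
  obtain ⟨g, hg, hgu, -⟩ := hU u hu v hv (by rw [hru.1, hv1]) (by rw [hru.1]; exact one_ne_zero)
  rw [← hgu]
  exact rt_conj h hg hru

/-- local copy of IA2: conjugate `-r_y` by the Siegel element `egen z (s • y) ∈ M`, `s = -t / (2c)`, which maps
`y` to `y + t z` -/
lemma rt_of_inA_aux (h : Ctx c M) {z y : κ → F} (hz : z ⬝ᵥ z = 0) (hzy : z ⬝ᵥ y = 0) (hy : Rt c M y)
    (hA : InA (stdQ κ F c) M z y) (t : F) : Rt c M (y + t • z) := by
  obtain ⟨g, hg, hgx⟩ := hA (-(t / (2 * c)))
  have hr := rt_conj h hg hy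
  rw [hgx y] at hr
  have e1 : egen (stdQ κ F c) z (-(t / (2 * c)) • y) y = y + t • z := by
    unfold egen
    rw [polar_dot, polar_dot, stdQ_dot, hzy, smul_dotProduct, hy.1]
    have hc := h.hc
    have h2 := h.h2
    simp only [mul_zero, zero_smul, add_zero, smul_eq_mul, mul_one, sub_zero]
    rw [sub_eq_add_neg, ← neg_smul]
    congr 2
    field_simp
  rwa [e1] at hr

/-- a vector with three non-zero coordinates is not of type `B` -/
lemma not_isB_of_three {x : κ → F} {k m l : κ} (hkm : k ≠ m) (hlm : l ≠ m) (hkl : k ≠ l)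
    (hk : x k ≠ 0) (hm : x m ≠ 0) (hl : x l ≠ 0) : ¬ IsB x := by
  rintro (⟨i, hi | hi⟩ | ⟨i, j, hij, -, -, hrest⟩)
  · -- `x = e i`
    by_cases hki : k = i
    · apply hm
      rw [hi, e_apply_ne (fun h => hkm (hki.trans h.symm))]
    · apply hk
      rw [hi, e_apply_ne hki]
  · by_cases hki : k = i
    · apply hm
      rw [hi, Pi.neg_apply, e_apply_ne (fun h => hkm (hki.trans h.symm)), neg_zero]
    · apply hk
      rw [hi, Pi.neg_apply, e_apply_ne hki, neg_zero]
  · -- one of `k, m, l` is neither `i` nor `j`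
    by_cases h1 : k ≠ i ∧ k ≠ j
    · exact hk (hrest k h1.1 h1.2)
    · by_cases h2 : m ≠ i ∧ m ≠ j
      · exact hm (hrest m h2.1 h2.2)
      · by_cases h3 : l ≠ i ∧ l ≠ j
        · exact hl (hrest l h3.1 h3.2)
        · exfalso
          have a1 : k = i ∨ k = j := by tauto
          have a2 : m = i ∨ m = j := by tauto
          have a3 : l = i ∨ l = j := by tauto
          rcases a1 with a1 | a1 <;> rcases a2 with a2 | a2 <;> rcases a3 with a3 | a3 <;>
            first
              | exact hkm (a1.trans a2.symm)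
              | exact hkl (a1.trans a3.symm)
              | exact hlm (a3.trans a2.symm)

/-- L2g -/
theorem win3_of_pz_two (h : Ctx c M) (h5 : 5 ≤ Fintype.card F)
    (hL1 : ∀ (T : Finset κ), T.card = 3 → ∀ x : κ → F, Rt c M x → x ∈ VT T → ¬ IsB x → Win3 c M)
    {k m l : κ} {j : F} (hj : j ^ 2 = -1) (hkm : k ≠ m) (hlm : l ≠ m) (hkl : k ≠ l)
    (hP : PZ c M k (e m + j • e l)) : Win3 c M := by
  obtain ⟨hzk, hzz, hz0, hA⟩ := hP
  have hzy : (e m + j • e l : κ → F) ⬝ᵥ e k = 0 := by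
    rw [dot_e_right]
    exact hzk
  have hR := rt_of_inA_aux h hzz hzy (rt_e h k) hA 1
  rw [one_smul] at hR
  have hj0 : j ≠ 0 := by
    rintro rfl
    have : (0 : F) = -1 := by
      rw [← hj]
      ring
    exact one_ne_zero (neg_eq_zero.1 this.symm)
  set x : κ → F := e k + (e m + j • e l) with hx
  have hxk : x k = 1 := by
    rw [hx, Pi.add_apply, Pi.add_apply, Pi.smul_apply, e_apply_same, e_apply_ne hkm, e_apply_ne hkl,
      smul_zero, add_zero, add_zero]
  have hxm : x m = 1 := by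
    rw [hx, Pi.add_apply, Pi.add_apply, Pi.smul_apply, e_apply_same, e_apply_ne (Ne.symm hkm),
      e_apply_ne (Ne.symm hlm), smul_zero, add_zero, zero_add]
  have hxl : x l = j := by
    rw [hx, Pi.add_apply, Pi.add_apply, Pi.smul_apply, e_apply_same, e_apply_ne (Ne.symm hkl),
      e_apply_ne hlm, smul_eq_mul, mul_one, zero_add, zero_add]
  have hT : ({k, m, l} : Finset κ).card = 3 := by
    rw [Finset.card_insert_of_notMem, Finset.card_insert_of_notMem, Finset.card_singleton]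
    · simpa using Ne.symm hlm
    · simp only [Finset.mem_insert, Finset.mem_singleton, not_or]
      exact ⟨hkm, hkl⟩
  have hxT : x ∈ VT ({k, m, l} : Finset κ) := by
    intro i hi
    simp only [Finset.mem_insert, Finset.mem_singleton, not_or] at hi
    rw [hx, Pi.add_apply, Pi.add_apply, Pi.smul_apply, e_apply_ne hi.1, e_apply_ne hi.2.1,
      e_apply_ne hi.2.2, smul_zero, add_zero, add_zero]
  refine hL1 _ hT x hR hxT (not_isB_of_three hkm hlm hkl ?_ ?_ ?_)
  · rw [hxk]; exact one_ne_zero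
  · rw [hxm]; exact one_ne_zero
  · rw [hxl]; exact hj0

/-- L2h -/
theorem win3_of_pz_three (h : Ctx c M) (h7 : 7 ≤ Fintype.card F)
    (hL1 : ∀ (T : Finset κ), T.card = 3 → ∀ x : κ → F, Rt c M x → x ∈ VT T → ¬ IsB x → Win3 c M)
    (hD : ∀ (R : Set (κ → F)), (∀ x ∈ R, Rt c M x) → ∀ U : Submodule F (κ → F), U = Submodule.span F R →
      finrank F U = 3 → (∀ u ∈ U, (∀ v ∈ U, u ⬝ᵥ v = 0) → u = 0) →
      (∀ w ∈ U, w ≠ 0 → ∃ x ∈ R, x ⬝ᵥ w ≠ 0 ∧ w ∉ Submodule.span F {x}) → TransU c M U ∨ Small c R U)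
    {k : κ} {z : κ → F} (hP : PZ c M k z) (h3 : (supp z).card = 3) : Win3 c M := by
  obtain ⟨hzk, hzz, hz0, hA⟩ := hP
  obtain ⟨l, l₂, l₃, hl12, hl13, hl23, hsupp⟩ := Finset.card_eq_three.1 h3
  have hl : z l ≠ 0 := mem_supp.1 (by rw [hsupp]; simp)
  have hl₂ : z l₂ ≠ 0 := mem_supp.1 (by rw [hsupp]; simp)
  have hl₃ : z l₃ ≠ 0 := mem_supp.1 (by rw [hsupp]; simp)
  have hkl : k ≠ l := fun e => hl (e ▸ hzk)
  have h2 := h.h2
  have h4 : (4 : F) ≠ 0 := by
    have : (4 : F) = 2 * 2 := by norm_num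
    rw [this]
    exact mul_ne_zero h2 h2
  have h3' : (3 : F) ≠ 0 := three_ne_zero' h.prime (by omega)
  have h5' : (5 : F) ≠ 0 := five_ne_zero' h.prime h7
  have hzek : z ⬝ᵥ e k = 0 := by rw [dot_e_right]; exact hzk
  have hekz : (e k : κ → F) ⬝ᵥ z = 0 := by rw [dot_e_left]; exact hzk
  have hRb : Rt c M (e k + z) := by
    have := rt_of_inA_aux h hzz hzek (rt_e h k) hA 1
    rwa [one_smul] at this
  -- the three roots
  set v : Fin 3 → κ → F := ![e k, e k + z, e l] with hv
  have hgram : gram v = !![1, 1, 0; 1, 1, z l; 0, z l, 1] := by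
    ext i j
    fin_cases i <;> fin_cases j <;>
      simp [gram, hv, add_dotProduct, dotProduct_add, dot_e_left, dot_e_right, e_apply_same,
        e_apply_ne hkl, e_apply_ne (Ne.symm hkl), hzk, hzz, hekz]
  have hdet : (gram v).det ≠ 0 := by
    have hd : (!![1, 1, 0; 1, 1, z l; 0, z l, 1] : Matrix (Fin 3) (Fin 3) F).det =
        -(z l * z l) := by
      rw [Matrix.det_fin_three]
      simp
    rw [hgram, hd]
    exact neg_ne_zero.2 (mul_ne_zero hl hl)
  have hrange : ∀ x ∈ Set.range v, Rt c M x := by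
    rintro x ⟨i, rfl⟩
    fin_cases i
    · exact rt_e h k
    · exact hRb
    · exact rt_e h l
  have hconn : ∀ i, ∃ i', i' ≠ i ∧ v i' ⬝ᵥ v i ≠ 0 := by
    intro i
    fin_cases i
    · refine ⟨1, by decide, ?_⟩
      show (e k + z) ⬝ᵥ e k ≠ 0
      rw [add_dotProduct, e_dot_e_same, hzek, add_zero]
      exact one_ne_zero
    · refine ⟨0, by decide, ?_⟩
      show (e k : κ → F) ⬝ᵥ (e k + z) ≠ 0
      rw [dotProduct_add, e_dot_e_same, hekz, add_zero]
      exact one_ne_zero
    · refine ⟨1, by decide, ?_⟩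
      show (e k + z) ⬝ᵥ e l ≠ 0
      rw [add_dotProduct, e_dot_e_ne hkl, zero_add, dot_e_right]
      exact hl
  set U : Submodule F (κ → F) := Submodule.span F (Set.range v) with hU
  have hek : (e k : κ → F) ∈ U := Submodule.subset_span ⟨0, rfl⟩
  have hekz' : (e k + z : κ → F) ∈ U := Submodule.subset_span ⟨1, rfl⟩
  have hel : (e l : κ → F) ∈ U := Submodule.subset_span ⟨2, rfl⟩
  have hzU : z ∈ U := by
    have := U.sub_mem hekz' hek
    rwa [add_sub_cancel_left] at this
  rcases hD (Set.range v) hrange U rfl (gram_finrank hdet) (gram_nondeg hdet)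
    (gram_irred hdet hconn) with hT | hS
  · -- the new root
    set x : κ → F := (5 / 4 : F) • e l + (3 / (4 * z l)) • (z - z l • e l) with hx
    have hxU : x ∈ U :=
      U.add_mem (U.smul_mem _ hel) (U.smul_mem _ (U.sub_mem hzU (U.smul_mem _ hel)))
    have hzel : z ⬝ᵥ e l = z l := dot_e_right z l
    have helz : (e l : κ → F) ⬝ᵥ z = z l := dot_e_left z l
    have hx1 : x ⬝ᵥ x = 1 := by
      rw [hx]
      simp only [add_dotProduct, dotProduct_add, smul_dotProduct, dotProduct_smul, sub_dotProduct,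
        dotProduct_sub, smul_eq_mul, e_dot_e_same, hzel, helz, hzz]
      field_simp
      ring
    have hRx : Rt c M x := rt_of_transU_aux h hT hel hxU (rt_e h l) hx1
    have hxT : x ∈ VT (supp z) := by
      intro i hi
      have hzi : z i = 0 := by
        by_contra hne
        exact hi (mem_supp.2 hne)
      have hil : i ≠ l := by
        rintro rfl
        exact hl hzi
      rw [hx]
      simp only [Pi.add_apply, Pi.smul_apply, Pi.sub_apply, smul_eq_mul, e_apply_ne hil, hzi]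
      ring
    have hxl : x l = 5 / 4 := by
      rw [hx]
      simp only [Pi.add_apply, Pi.smul_apply, Pi.sub_apply, smul_eq_mul, e_apply_same]
      ring
    have hxl₂ : x l₂ = 3 / (4 * z l) * z l₂ := by
      rw [hx]
      simp only [Pi.add_apply, Pi.smul_apply, Pi.sub_apply, smul_eq_mul, e_apply_ne (Ne.symm hl12)]
      ring
    have hxl₃ : x l₃ = 3 / (4 * z l) * z l₃ := by
      rw [hx]
      simp only [Pi.add_apply, Pi.smul_apply, Pi.sub_apply, smul_eq_mul, e_apply_ne (Ne.symm hl13)]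
      ring
    refine hL1 _ h3 x hRx hxT (not_isB_of_three hl12 (Ne.symm hl23) hl13 ?_ ?_ ?_)
    · rw [hxl]
      exact div_ne_zero h5' h4
    · rw [hxl₂]
      exact mul_ne_zero (div_ne_zero h3' (mul_ne_zero h4 hl)) hl₂
    · rw [hxl₃]
      exact mul_ne_zero (div_ne_zero h3' (mul_ne_zero h4 hl)) hl₃
  · -- `Small` is impossible
    exfalso
    have hg : negRefl (stdQ κ F c) (e k) * negRefl (stdQ κ F c) (e k + z) ∈
        Subgroup.closure ((negRefl (stdQ κ F c)) '' Set.range v) :=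
      Subgroup.mul_mem _ (Subgroup.subset_closure ⟨e k, ⟨0, rfl⟩, rfl⟩)
        (Subgroup.subset_closure ⟨e k + z, ⟨1, rfl⟩, rfl⟩)
    obtain ⟨k', hk1, hk5, hkp, hfix⟩ := hS _ hg
    have hbb : (e k + z) ⬝ᵥ (e k + z) = 1 := hRb.1
    have hab : (e k : κ → F) ⬝ᵥ (e k + z) = 1 := by
      rw [dotProduct_add, e_dot_e_same, hekz, add_zero]
    have := (order_pair h.hc h.prime (by omega) (e_dot_e_same k) hbb hk1 hk5 hkp (hfix _ hek)
      (hfix _ hekz')).2 (by rw [hab, one_pow])
    rcases this with h' | h'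
    · apply hz0
      have := congrArg (fun w => w - e k) h'
      simpa using this
    · have := congrFun h' k
      rw [Pi.add_apply, Pi.neg_apply, e_apply_same, hzk, add_zero] at this
      apply h2
      have e2 : (2 : F) = 1 + 1 := by norm_num
      rw [e2]
      nth_rewrite 1 [this]
      ring

end Cfsg.Agent.Lib.Helper1.FrCLeaf


end Cfsg.Agent.Lib.Helper11.Om11F
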