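import Cfsg.Agent.Lib.Helper11.Om11F.H17_FrCDefs
import Cfsg.Agent.Lib.Helper28.FrCArith

set_option linter.dupNamespace false
set_option linter.ambiguousOpen false

namespace Cfsg.Agent.Lib.Helper11.Om11F

/-!
# CORE13 leaf L1b (`vt_allB_of_small`), helper28

The roots inside a coordinate 3-space `VT T` form an abstract `FrCArith.Sys3`; the arithmetic is in `FrCArith`.
-/

set_option autoImplicit false
set_option linter.unusedSectionVars false
set_option linter.unusedVariables false

namespace Cfsg.Agent.Lib.Helper28.FrCLeaf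
open Cfsg.Agent.Lib.Helper28.FrCLeaf
open _root_.Cfsg.Agent.Lib.Helper28

open Module QuadraticMap Matrix Cfsg.Agent.Lib.Helper25.CD Cfsg.Agent.Lib.Helper25.Spin
  Cfsg.Agent.Lib.Helper5.NSMax Cfsg.Agent.Lib.Helper5.PairMax Cfsg.Agent.Lib.Helper17.OC2
  Cfsg.Agent.Lib.Helper29.FrStd Cfsg.Agent.Lib.Helper11.Mono Cfsg.Agent.Lib.Helper17.FrC
  Cfsg.Agent.Lib.Helper28.FrCArith
open _root_.Cfsg.Agent.Lib.Helper25.CD _root_.Cfsg.Agent.Lib.Helper25.Spin _root_.Cfsg.Agent.Lib.Helper5.NSMax _root_.Cfsg.Agent.Lib.Helper5.PairMax _root_.Cfsg.Agent.Lib.Helper17.OC2 _root_.Cfsg.Agent.Lib.Helper29.FrStd _root_.Cfsg.Agent.Lib.Helper11.Mono _root_.Cfsg.Agent.Lib.Helper28.FrCArith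

variable {κ : Type} [Fintype κ] [DecidableEq κ] {F : Type*} [Field F] [Fintype F]

/-- small natural numbers are non-zero in a prime field -/
theorem natCast_ne_zero_of_lt_card (hp : (Fintype.card F).Prime) {n : ℕ} (h0 : 0 < n)
    (hn : n < Fintype.card F) : (n : F) ≠ 0 := by
  have : Fact (Fintype.card F).Prime := ⟨hp⟩
  have : CharP F (Fintype.card F) := charP_of_card_eq_prime rfl
  intro h
  have := (CharP.cast_eq_zero_iff F (Fintype.card F) n).1 h
  exact absurd (Nat.le_of_dvd h0 this) (not_le.2 hn)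

/-- the vector `u e_i + v e_j + w e_k` -/
def vec3 (i j k : κ) (u v w : F) : κ → F :=
  fun l => if l = i then u else if l = j then v else if l = k then w else 0

section
variable {i j k : κ} (hij : i ≠ j) (hik : i ≠ k) (hjk : j ≠ k)
include hij hik hjk

theorem vec3_i (u v w : F) : vec3 i j k u v w i = u := by simp [vec3]
theorem vec3_j (u v w : F) : vec3 i j k u v w j = v := by simp [vec3, hij.symm]
theorem vec3_k (u v w : F) : vec3 i j k u v w k = w := by simp [vec3, hik.symm, hjk.symm]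

theorem vec3_eq (u v w : F) :
    vec3 i j k u v w = u • (Pi.single i 1 : κ → F) + v • (Pi.single j 1 : κ → F) + w • (Pi.single k 1 : κ → F) := by
  funext l
  simp only [vec3, Pi.add_apply, Pi.smul_apply, Pi.single_apply, smul_eq_mul]
  by_cases h1 : l = i
  · subst h1; simp [hij, hik]
  · by_cases h2 : l = j
    · subst h2; simp [h1, hjk]
    · by_cases h3 : l = k
      · subst h3; simp [h1, h2]
      · simp [h1, h2, h3]

theorem vec3_dot (u v w : F) (y : κ → F) : vec3 i j k u v w ⬝ᵥ y = u * y i + v * y j + w * y k := by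
  rw [vec3_eq hij hik hjk]
  simp [add_dotProduct, smul_dotProduct]

theorem vec3_dot_vec3 (u v w u' v' w' : F) :
    vec3 i j k u v w ⬝ᵥ vec3 i j k u' v' w' = u * u' + v * v' + w * w' := by
  rw [vec3_dot hij hik hjk, vec3_i hij hik hjk, vec3_j hij hik hjk, vec3_k hij hik hjk]

theorem vec3_mem (u v w : F) : vec3 i j k u v w ∈ (VT {i, j, k} : Submodule F (κ → F)) := by
  rw [mem_VT]
  intro l hl
  simp only [Finset.mem_insert, Finset.mem_singleton, not_or] at hl
  simp [vec3, hl.1, hl.2.1, hl.2.2]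

theorem eq_vec3_of_mem {x : κ → F} (hx : x ∈ (VT {i, j, k} : Submodule F (κ → F))) :
    x = vec3 i j k (x i) (x j) (x k) := by
  funext l
  unfold vec3
  by_cases h1 : l = i
  · subst h1; simp
  · by_cases h2 : l = j
    · subst h2; simp [h1]
    · by_cases h3 : l = k
      · subst h3; simp [h1, h2]
      · simp only [h1, h2, h3, if_false]
        exact hx l (by simp [h1, h2, h3])

theorem vec3_e : vec3 i j k (1:F) 0 0 = e i := by
  funext l
  simp only [vec3, e, Pi.single_apply]
  by_cases h1 : l = i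
  · simp [h1]
  · simp [h1]

theorem vec3_flip (u v w : F) : Helper17.FrC.flip i (vec3 i j k u v w) = vec3 i j k (-u) v w := by
  funext l
  unfold Helper17.FrC.flip
  by_cases h1 : l = i
  · subst h1; simp [vec3]
  · rw [Function.update_of_ne h1]; simp [vec3, h1]

theorem vec3_neg (u v w : F) : -vec3 i j k u v w = vec3 i j k (-u) (-v) (-w) := by
  funext l
  simp only [Pi.neg_apply, vec3]
  split_ifs <;> simp

theorem vec3_refl (u v w u' v' w' t : F) :
    vec3 i j k u v w - t • vec3 i j k u' v' w' = vec3 i j k (u - t * u') (v - t * v') (w - t * w') := by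
  funext l
  simp only [Pi.sub_apply, Pi.smul_apply, smul_eq_mul, vec3]
  split_ifs <;> ring

/-- composing with `swap i j * swap s t` (`s, t` spare) swaps the first two coordinates -/
theorem vec3_comp_sw12 {s t : κ} (hs : s ∉ ({i, j, k} : Finset κ)) (ht : t ∉ ({i, j, k} : Finset κ))
    (hst : s ≠ t) (u v w : F) :
    vec3 i j k u v w ∘ (Equiv.swap i j * Equiv.swap s t : Equiv.Perm κ) = vec3 i j k v u w := by
  simp only [Finset.mem_insert, Finset.mem_singleton, not_or] at hs ht
  funext l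
  rw [Function.comp_apply, Equiv.Perm.mul_apply]
  by_cases h1 : l = i
  · subst h1
    rw [Equiv.swap_apply_of_ne_of_ne (Ne.symm hs.1) (Ne.symm ht.1), Equiv.swap_apply_left,
      vec3_j hij hik hjk, vec3_i hij hik hjk]
  · by_cases h2 : l = j
    · subst h2
      rw [Equiv.swap_apply_of_ne_of_ne (Ne.symm hs.2.1) (Ne.symm ht.2.1), Equiv.swap_apply_right,
        vec3_i hij hik hjk, vec3_j hij hik hjk]
    · by_cases h3 : l = k
      · subst h3
        rw [Equiv.swap_apply_of_ne_of_ne (Ne.symm hs.2.2) (Ne.symm ht.2.2),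
          Equiv.swap_apply_of_ne_of_ne h1 h2, vec3_k hij hik hjk, vec3_k hij hik hjk]
      · by_cases h4 : l = s
        · subst h4
          rw [Equiv.swap_apply_left, Equiv.swap_apply_of_ne_of_ne ht.1 ht.2.1]
          simp [vec3, hs.1, hs.2.1, hs.2.2, ht.1, ht.2.1, ht.2.2]
        · by_cases h5 : l = t
          · subst h5
            rw [Equiv.swap_apply_right, Equiv.swap_apply_of_ne_of_ne hs.1 hs.2.1]
            simp [vec3, hs.1, hs.2.1, hs.2.2, ht.1, ht.2.1, ht.2.2]
          · rw [Equiv.swap_apply_of_ne_of_ne h4 h5, Equiv.swap_apply_of_ne_of_ne h1 h2]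
            simp [vec3, h1, h2, h3]

/-- composing with `swap j k * swap s t` (`s, t` spare) swaps the last two coordinates -/
theorem vec3_comp_sw23 {s t : κ} (hs : s ∉ ({i, j, k} : Finset κ)) (ht : t ∉ ({i, j, k} : Finset κ))
    (hst : s ≠ t) (u v w : F) :
    vec3 i j k u v w ∘ (Equiv.swap j k * Equiv.swap s t : Equiv.Perm κ) = vec3 i j k u w v := by
  simp only [Finset.mem_insert, Finset.mem_singleton, not_or] at hs ht
  funext l
  rw [Function.comp_apply, Equiv.Perm.mul_apply]
  by_cases h1 : l = i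
  · subst h1
    rw [Equiv.swap_apply_of_ne_of_ne (Ne.symm hs.1) (Ne.symm ht.1), Equiv.swap_apply_of_ne_of_ne hij hik,
      vec3_i hij hik hjk, vec3_i hij hik hjk]
  · by_cases h2 : l = j
    · subst h2
      rw [Equiv.swap_apply_of_ne_of_ne (Ne.symm hs.2.1) (Ne.symm ht.2.1), Equiv.swap_apply_left,
        vec3_k hij hik hjk, vec3_j hij hik hjk]
    · by_cases h3 : l = k
      · subst h3
        rw [Equiv.swap_apply_of_ne_of_ne (Ne.symm hs.2.2) (Ne.symm ht.2.2),
          Equiv.swap_apply_right, vec3_j hij hik hjk, vec3_k hij hik hjk]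
      · by_cases h4 : l = s
        · subst h4
          rw [Equiv.swap_apply_left, Equiv.swap_apply_of_ne_of_ne ht.2.1 ht.2.2]
          simp [vec3, hs.1, hs.2.1, hs.2.2, ht.1, ht.2.1, ht.2.2]
        · by_cases h5 : l = t
          · subst h5
            rw [Equiv.swap_apply_right, Equiv.swap_apply_of_ne_of_ne hs.2.1 hs.2.2]
            simp [vec3, hs.1, hs.2.1, hs.2.2, ht.1, ht.2.1, ht.2.2]
          · rw [Equiv.swap_apply_of_ne_of_ne h4 h5, Equiv.swap_apply_of_ne_of_ne h2 h3]
            simp [vec3, h1, h2, h3]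

end

theorem sign_swap_mul_swap {a b s t : κ} (hab : a ≠ b) (hst : s ≠ t) :
    Equiv.Perm.sign (Equiv.swap a b * Equiv.swap s t : Equiv.Perm κ) = 1 := by
  rw [Equiv.Perm.sign_mul, Equiv.Perm.sign_swap hab, Equiv.Perm.sign_swap hst]
  rfl

/-- the roots in `VT {i,j,k}` form a `Sys3` -/
theorem sys3_of_sys {R : (κ → F) → Prop} (hS : Sys R) {i j k s t : κ} (hij : i ≠ j) (hik : i ≠ k)
    (hjk : j ≠ k) (hs : s ∉ ({i, j, k} : Finset κ)) (ht : t ∉ ({i, j, k} : Finset κ)) (hst : s ≠ t)
    (hsm : ∀ x y, R x → R y → x ∈ (VT {i, j, k} : Submodule F (κ → F)) →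
      y ∈ (VT {i, j, k} : Submodule F (κ → F)) →
      Sp ((x ⬝ᵥ y) ^ 2) ∧ ((x ⬝ᵥ y) ^ 2 = 1 → y = x ∨ y = -x)) :
    Sys3 (fun u v w : F => R (vec3 i j k u v w)) where
  unit := fun u v w h => by
    have := hS.unit _ h
    rw [vec3_dot_vec3 hij hik hjk] at this
    linear_combination this
  e1 := by
    show R (vec3 i j k 1 0 0)
    rw [vec3_e hij hik hjk]
    exact hS.frame i
  neg1 := fun u v w h => by
    show R (vec3 i j k (-u) v w)
    rw [← vec3_flip hij hik hjk]
    exact hS.flip _ i h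
  sw12 := fun u v w h => by
    show R (vec3 i j k v u w)
    rw [← vec3_comp_sw12 hij hik hjk hs ht hst]
    exact hS.perm _ _ (sign_swap_mul_swap hij hst) h
  sw23 := fun u v w h => by
    show R (vec3 i j k u w v)
    rw [← vec3_comp_sw23 hij hik hjk hs ht hst]
    exact hS.perm _ _ (sign_swap_mul_swap hjk hst) h
  refl := fun u v w u' v' w' h h' => by
    have := hS.refl _ _ h h'
    rw [vec3_dot_vec3 hij hik hjk, vec3_refl hij hik hjk] at this
    exact this
  sm := fun u v w u' v' w' h h' => by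
    have := hsm _ _ h h' (vec3_mem hij hik hjk u v w) (vec3_mem hij hik hjk u' v' w')
    rw [vec3_dot_vec3 hij hik hjk] at this
    refine ⟨this.1, fun h1 => ?_⟩
    rcases this.2 h1 with h2 | h2
    · left
      refine ⟨?_, ?_, ?_⟩
      · have := congrFun h2 i
        rwa [vec3_i hij hik hjk, vec3_i hij hik hjk] at this
      · have := congrFun h2 j
        rwa [vec3_j hij hik hjk, vec3_j hij hik hjk] at this
      · have := congrFun h2 k
        rwa [vec3_k hij hik hjk, vec3_k hij hik hjk] at this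
    · right
      rw [vec3_neg hij hik hjk] at h2
      refine ⟨?_, ?_, ?_⟩
      · have := congrFun h2 i
        rwa [vec3_i hij hik hjk, vec3_i hij hik hjk] at this
      · have := congrFun h2 j
        rwa [vec3_j hij hik hjk, vec3_j hij hik hjk] at this
      · have := congrFun h2 k
        rwa [vec3_k hij hik hjk, vec3_k hij hik hjk] at this

/-- `B3` coordinates give type `B` -/
theorem isB_of_B3 {i j k : κ} (hij : i ≠ j) (hik : i ≠ k) (hjk : j ≠ k) {u v w : F} (h : B3 u v w) :
    IsB (vec3 i j k u v w) := by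
  have hz : ∀ l, l ≠ i → l ≠ j → l ≠ k → vec3 i j k u v w l = 0 := fun l h1 h2 h3 => by
    simp [vec3, h1, h2, h3]
  have one : ∀ (m : κ) (x : κ → F), x m ^ 2 = 1 → (∀ l, l ≠ m → x l = 0) → IsB x := by
    intro m x hx h0
    left
    refine ⟨m, ?_⟩
    have : x m * x m = 1 := by rw [← pow_two]; exact hx
    rcases mul_self_eq_one_iff.1 this with h1 | h1
    · left
      funext l
      by_cases hl : l = m
      · subst hl; simp [e, h1]
      · rw [h0 l hl]; simp [e, hl]
    · right
      funext l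
      by_cases hl : l = m
      · subst hl; simp [e, h1]
      · rw [h0 l hl]; simp [e, hl]
  rcases h with ⟨hv, hw, hu⟩ | ⟨hu, hw, hv⟩ | ⟨hu, hv, hw⟩ | ⟨hw, hu, hv⟩ | ⟨hv, hu, hw⟩ | ⟨hu, hv, hw⟩
  · refine one i _ (by rw [vec3_i hij hik hjk]; exact hu) (fun l hl => ?_)
    by_cases h2 : l = j
    · subst h2; rw [vec3_j hij hik hjk]; exact hv
    · by_cases h3 : l = k
      · subst h3; rw [vec3_k hij hik hjk]; exact hw
      · exact hz l hl h2 h3
  · refine one j _ (by rw [vec3_j hij hik hjk]; exact hv) (fun l hl => ?_)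
    by_cases h1 : l = i
    · subst h1; rw [vec3_i hij hik hjk]; exact hu
    · by_cases h3 : l = k
      · subst h3; rw [vec3_k hij hik hjk]; exact hw
      · exact hz l h1 hl h3
  · refine one k _ (by rw [vec3_k hij hik hjk]; exact hw) (fun l hl => ?_)
    by_cases h1 : l = i
    · subst h1; rw [vec3_i hij hik hjk]; exact hu
    · by_cases h2 : l = j
      · subst h2; rw [vec3_j hij hik hjk]; exact hv
      · exact hz l h1 h2 hl
  · right
    refine ⟨i, j, hij, by rw [vec3_i hij hik hjk]; exact hu, by rw [vec3_j hij hik hjk]; exact hv,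
      fun l h1 h2 => ?_⟩
    by_cases h3 : l = k
    · subst h3; rw [vec3_k hij hik hjk]; exact hw
    · exact hz l h1 h2 h3
  · right
    refine ⟨i, k, hik, by rw [vec3_i hij hik hjk]; exact hu, by rw [vec3_k hij hik hjk]; exact hw,
      fun l h1 h3 => ?_⟩
    by_cases h2 : l = j
    · subst h2; rw [vec3_j hij hik hjk]; exact hv
    · exact hz l h1 h2 h3
  · right
    refine ⟨j, k, hjk, by rw [vec3_j hij hik hjk]; exact hv, by rw [vec3_k hij hik hjk]; exact hw,
      fun l h2 h3 => ?_⟩
    by_cases h1 : l = i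
    · subst h1; rw [vec3_i hij hik hjk]; exact hu
    · exact hz l h1 h2 h3

/-- L1b. -/
theorem vt_allB_of_small (hp : (Fintype.card F).Prime) (h11 : 11 ≤ Fintype.card F) (hκ : Fintype.card κ = 11)
    {R : (κ → F) → Prop} (hS : Sys R) {T : Finset κ} (hT : T.card = 3)
    (hsm : ∀ x y, R x → R y → x ∈ VT T → y ∈ VT T →
      Sp ((x ⬝ᵥ y) ^ 2) ∧ ((x ⬝ᵥ y) ^ 2 = 1 → y = x ∨ y = -x)) :
    ∀ x, R x → x ∈ VT T → IsB x := by
  obtain ⟨i, j, k, hij, hik, hjk, rfl⟩ := Finset.card_eq_three.1 hT
  have hcomp : 1 < (({i, j, k} : Finset κ)ᶜ).card := by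
    rw [Finset.card_compl, hκ, hT]
    norm_num
  obtain ⟨s, hs, t, ht, hst⟩ := Finset.one_lt_card.1 hcomp
  rw [Finset.mem_compl] at hs ht
  have h2 : (2:F) ≠ 0 := by
    have := natCast_ne_zero_of_lt_card hp (n := 2) (by norm_num) (by omega)
    exact_mod_cast this
  have h3 : (3:F) ≠ 0 := by
    have := natCast_ne_zero_of_lt_card hp (n := 3) (by norm_num) (by omega)
    exact_mod_cast this
  have h5 : (5:F) ≠ 0 := by
    have := natCast_ne_zero_of_lt_card hp (n := 5) (by norm_num) (by omega)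
    exact_mod_cast this
  have h7 : (7:F) ≠ 0 := by
    have := natCast_ne_zero_of_lt_card hp (n := 7) (by norm_num) (by omega)
    exact_mod_cast this
  have hS3 := sys3_of_sys hS hij hik hjk hs ht hst hsm
  intro x hx hxT
  have hxe := eq_vec3_of_mem hij hik hjk hxT
  rw [hxe] at hx ⊢
  exact isB_of_B3 hij hik hjk (hS3.allB h2 h3 h5 h7 hx)

end Cfsg.Agent.Lib.Helper28.FrCLeaf


end Cfsg.Agent.Lib.Helper11.Om11F
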