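import Cfsg.Agent.Lib.Helper11.Om11F.H17_FrCDefs
import Cfsg.Agent.Lib.Helper29.FrDBMain
import Cfsg.Agent.Lib.Helper15.FrDBSQ
import Cfsg.Agent.Lib.Helper15.FrDBOB

set_option linter.dupNamespace false
set_option linter.ambiguousOpen false

namespace Cfsg.Agent.Lib.Helper11.Om11F

/-!
# CORE13 (S5679 + S5696), leaf D1 `dickson_bridge` (helper29), here from the trichotomy `FrDB.Tri` as a hypothesis
(`dickson_bridge_of_tri`); the hypothesis is helper12's `pgl2_prime_trichotomy`.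
Internals: FrDBModel / FrDBConj / FrDBPhi / FrDBRel / FrDBLift / FrDBCases / FrDBMain; helper15: FrDBSQ, FrDBOB.
-/

set_option autoImplicit false
set_option linter.unusedSectionVars false
set_option linter.unusedVariables false

namespace Cfsg.Agent.Lib.Helper29.FrCLeaf
open Cfsg.Agent.Lib.Helper29.FrCLeaf
open _root_.Cfsg.Agent.Lib.Helper29

open Module QuadraticMap Matrix Cfsg.Agent.Lib.Helper25.CD Cfsg.Agent.Lib.Helper25.Spin
  Cfsg.Agent.Lib.Helper5.NSMax Cfsg.Agent.Lib.Helper5.PairMax Cfsg.Agent.Lib.Helper17.OC2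
  Cfsg.Agent.Lib.Helper29.FrStd Cfsg.Agent.Lib.Helper11.Mono Cfsg.Agent.Lib.Helper17.FrC
  Cfsg.Agent.Lib.Helper29.FrDB
open _root_.Cfsg.Agent.Lib.Helper25.CD _root_.Cfsg.Agent.Lib.Helper25.Spin _root_.Cfsg.Agent.Lib.Helper5.NSMax _root_.Cfsg.Agent.Lib.Helper5.PairMax _root_.Cfsg.Agent.Lib.Helper17.OC2 _root_.Cfsg.Agent.Lib.Helper29.FrStd _root_.Cfsg.Agent.Lib.Helper11.Mono _root_.Cfsg.Agent.Lib.Helper29.FrDB

variable {κ : Type} [Fintype κ] [DecidableEq κ] {F : Type*} [Field F] [Fintype F]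
  {c : F} {M : Subgroup ↥(Cfsg.isometryGroup F ⇑(stdQ κ F c))}

/-- a field of prime cardinality `p` has characteristic `p` -/
theorem charP_of_card_prime' (hp : (Fintype.card F).Prime) : CharP F (Fintype.card F) := by
  obtain ⟨p, hchar⟩ := CharP.exists F
  have hpF : Fact p.Prime := ⟨CharP.char_is_prime F p⟩
  obtain ⟨n, -, hn⟩ := FiniteField.card F p
  have hpq : Fintype.card F = p := by
    rw [hn] at hp
    have h1 : (n : ℕ) = 1 := by
      by_contra h1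
      exact Nat.Prime.not_prime_pow' (x := p) (n := n) h1 hp
    rw [hn, h1, pow_one]
  rw [hpq]
  exact hchar

lemma stdQ_dot (x : κ → F) : stdQ κ F c x = c * (x ⬝ᵥ x) := by
  rw [stdQ_apply]
  rfl

lemma polar_dot (x y : κ → F) : polar (stdQ κ F c) x y = 2 * c * (x ⬝ᵥ y) := by
  rw [polar_stdQ]
  rfl

/-- D1 from the trichotomy -/
theorem dickson_bridge_of_tri (h : Ctx c M) (h5 : 5 ≤ Fintype.card F)
    (htri : ∀ X : Subgroup (GL (Fin 2) F), Tri (Fintype.card F) X) (R : Set (κ → F))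
    (hR : ∀ x ∈ R, Rt c M x) (U : Submodule F (κ → F)) (hU : U = Submodule.span F R)
    (h3 : finrank F U = 3) (hnd : ∀ u ∈ U, (∀ v ∈ U, u ⬝ᵥ v = 0) → u = 0)
    (hirr : ∀ w ∈ U, w ≠ 0 → ∃ x ∈ R, x ⬝ᵥ w ≠ 0 ∧ w ∉ Submodule.span F {x}) :
    TransU c M U ∨ Small c R U := by
  have hpF : Fact (Fintype.card F).Prime := ⟨h.prime⟩
  have hch : CharP F (Fintype.card F) := charP_of_card_prime' h.prime
  have h2 := h.h2
  have hc := h.hc
  have h2c : (2 : F) * c ≠ 0 := mul_ne_zero h2 hc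
  have hodd : Fintype.card F % 2 = 1 := by
    rcases h.prime.eq_two_or_odd with h' | h'
    · omega
    · exact h'
  obtain ⟨u1, u2, u3, hu1, hu2, hu3, d1, d2, d3, o12, o13, o23, hspan⟩ :=
    Cfsg.Agent.Lib.Helper15.FrDBLeaf.exists_orth_basis h2 U h3 hnd
  have q1 : stdQ κ F c u1 ≠ 0 := by rw [stdQ_dot]; exact mul_ne_zero hc d1
  have q2 : stdQ κ F c u2 ≠ 0 := by rw [stdQ_dot]; exact mul_ne_zero hc d2
  have q3 : stdQ κ F c u3 ≠ 0 := by rw [stdQ_dot]; exact mul_ne_zero hc d3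
  obtain ⟨α, hαdef⟩ : ∃ α, α = -(stdQ κ F c u3 / stdQ κ F c u2) := ⟨_, rfl⟩
  have hα : α ≠ 0 := by
    rw [hαdef]
    exact neg_ne_zero.mpr (div_ne_zero q3 q2)
  obtain ⟨s, t, hst⟩ := exists_norm_eq hodd hα (-(stdQ κ F c u3 / stdQ κ F c u1))
  have hM : Mod3 (stdQ κ F c) u1 u2 u3 α s t :=
    { h2 := h2, q1 := q1, q2 := q2, q3 := q3
      o12 := by rw [polar_dot, o12, mul_zero]
      o13 := by rw [polar_dot, o13, mul_zero]
      o23 := by rw [polar_dot, o23, mul_zero]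
      hα := hαdef, hβ := hst }
  have hlcU : ∀ a b c' : F, lc u1 u2 u3 a b c' ∈ U := fun a b c' =>
    U.add_mem (U.add_mem (U.smul_mem _ hu1) (U.smul_mem _ hu2)) (U.smul_mem _ hu3)
  have hUlc : ∀ x ∈ U, ∃ a b c' : F, x = lc u1 u2 u3 a b c' := hspan
  have hRU : ∀ x ∈ R, x ∈ U := fun x hx => by
    rw [hU]
    exact Submodule.subset_span hx
  have hRS : RSet (stdQ κ F c) u1 u2 u3 R :=
    { mem := fun x hx => hUlc x (hRU x hx)
      ns := fun x hx => by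
        rw [stdQ_dot, (hR x hx).1, mul_one]
        exact hc }
  have hsq : ∀ x ∈ X1 (stdQ κ F c) u1 u2 u3 α s t R, x * x ∈ Xp (stdQ κ F c) u1 u2 u3 α s t R := by
    intro x hx
    have h1 := Cfsg.Agent.Lib.Helper15.FrDBLeaf.sq_mem_closure_pairs _ hx
    refine Subgroup.closure_mono ?_ h1
    rintro g ⟨a, ⟨x, hx, rfl⟩, b, ⟨y, hy, rfl⟩, rfl⟩
    exact ⟨x, hx, y, hy, rfl⟩
  have hirr' : ∀ a b c' : F, lc u1 u2 u3 a b c' ≠ 0 → ∃ x ∈ R,
      polar (stdQ κ F c) x (lc u1 u2 u3 a b c') ≠ 0 ∧ lc u1 u2 u3 a b c' ∉ Submodule.span F {x} := by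
    intro a b c' hne
    obtain ⟨x, hx, hxw, hns⟩ := hirr _ (hlcU a b c') hne
    refine ⟨x, hx, ?_, hns⟩
    rw [polar_dot]
    exact mul_ne_zero h2c hxw
  rcases bridge_core hM hRS hodd h5 htri hsq hirr' M (fun x hx => (hR x hx).2) with hT | hS
  · left
    intro u hu v hv huv hne
    obtain ⟨a, b, c', rfl⟩ := hUlc u hu
    obtain ⟨a', b', c'', rfl⟩ := hUlc v hv
    obtain ⟨g, hg, hgu, hfix⟩ := hT a b c' a' b' c'' (by rw [stdQ_dot, stdQ_dot, huv])
      (by rw [stdQ_dot]; exact mul_ne_zero hc hne)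
    refine ⟨g, hg, hgu, ?_⟩
    intro w hw
    apply hfix w
    · rw [polar_dot, dotProduct_comm, hw u1 hu1, mul_zero]
    · rw [polar_dot, dotProduct_comm, hw u2 hu2, mul_zero]
    · rw [polar_dot, dotProduct_comm, hw u3 hu3, mul_zero]
  · right
    intro g hg
    obtain ⟨k, hk1, hk5, hkp, hk⟩ := hS g hg
    refine ⟨k, hk1, hk5, hkp, ?_⟩
    intro u hu
    obtain ⟨a, b, c', rfl⟩ := hUlc u hu
    exact hk a b c'

end Cfsg.Agent.Lib.Helper29.FrCLeaf


end Cfsg.Agent.Lib.Helper11.Om11F
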