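import Mathlib
import Cfsg.Agent.Lib.Helper29.Fr2MainG
import Cfsg.Agent.Lib.Helper11.Om11F.H17_FrCMain

/-!
helper11: CORE11 = conjunct 3 of S5858 (`omega11_geometric_types_maximal`): the stabiliser of an orthogonal frame
(decomposition into pairwise isometric anisotropic lines) is maximal in `Ω_11(p)`, `p` an odd prime.

The modules `Cfsg.Agent.Lib.Helper11.Om11F.H<K>_<File>` are verbatim copies of the CORE13 tower of S5679
(`Cfsg.Agent.Lib.Helper<K>.<File>`, 33 modules, authors helper1, 4, 6, 9, 11, 15, 17, 23, 24, 27, 28, 29) with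
`card κ = 13` replaced by `card κ = 11` (the only changes: the counts of spare coordinates `13 - 4 = 9 -> 11 - 4 = 7`
in `H6_FrCA6`, `H9_FrCP3a`, the bounds `≤ 13 -> ≤ 11`, and `-r_{e_i}` as a product of `10` instead of `12` reflections
in `H15_FrCS`), every copy wrapped in `namespace Cfsg.Agent.Lib.Helper11.Om11F` so that all names are fresh.
Here: the transport `frame_of_core_gen` of helper29's `Fr2MainG` re-run with its true bound `5 ≤ card ι`, and the result.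
-/

set_option autoImplicit false
set_option linter.unusedSectionVars false
set_option linter.unusedVariables false

namespace Cfsg.Agent.Lib.Helper11.Om11F
open Matrix Cfsg.Agent.Lib.Helper11.Mono Cfsg.Agent.Lib.Helper15.MonoLeaf Cfsg.Agent.Lib.Helper2.MonoLeaf
  Cfsg.Agent.Lib.Helper29.Fr Cfsg.Agent.Lib.Helper29.FrStd Cfsg.Agent.Lib.Helper29.Fr2Leaf
  Cfsg.Agent.Lib.Helper29.FrMain Cfsg.Agent.Lib.Helper29.Fr2Main

variable {F : Type*} [Field F] [Fintype F] {ι : Type} [Fintype ι] [DecidableEq ι]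

/-- helper29's TRANSPORT `Fr2Main.frame_of_core_gen` with its true bound `5 ≤ card ι` (verbatim proof) -/
theorem frame_of_core_five (hn : 5 ≤ Fintype.card ι) (h2 : (2 : F) ≠ 0) (Qf : QuadraticForm F (ι → F))
    (hcore : ∀ c : F, c ≠ 0 → CoreProp ι F c)
    {t : ℕ} (D : Fin t → Submodule F (ι → F)) (hD : Cfsg.Geo.IsOrthogonalMDecomposition ⇑Qf 1 D) :
    Cfsg.Geo.IsMaximalIn (Cfsg.Geo.omegaGL ⇑Qf)
      (Cfsg.Geo.decompositionStabilizer D ⊓ Cfsg.Geo.omegaGL ⇑Qf) := by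
  have ht := Cfsg.Agent.Lib.Helper11.Fr2Leaf.card_eq_of_decomp_gen D hD.decomp.decomp
  let e : Fin t ≃ ι := (Fintype.equivFinOfCardEq ht.symm).symm
  obtain ⟨c, x, hc, hx, hxD, horth⟩ := Cfsg.Agent.Lib.Helper11.Fr2Leaf.exists_frame_gen Qf D hD
  obtain ⟨P, hPx, hPQ⟩ := Cfsg.Agent.Lib.Helper11.Fr2Leaf.exists_P_gen Qf D hD c x hx hxD horth e
  have hP : ∀ j, D j = Submodule.span F {(P : Matrix ι ι F) *ᵥ (Pi.single (e j) (1 : F))} := by
    intro j
    rw [hPx j, hxD j]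
  have hstd := isMaximalIn_std (hcore c hc)
    (Cfsg.Agent.Lib.Helper15.Fr2Leaf.exists_nonmono h2 hc hn)
  have hinj : Function.Injective (MulAut.conj P).toMonoidHom := (MulAut.conj P).injective
  have h := Cfsg.Agent.Lib.Helper5.TSMax.isMaximalIn_map (MulAut.conj P).toMonoidHom hinj hstd.1 hstd.2
  have hΩ : (Cfsg.Geo.omegaGL ⇑(stdQ ι F c)).map (MulAut.conj P).toMonoidHom =
      Cfsg.Geo.omegaGL ⇑Qf := by
    rw [← hPQ]
    exact Cfsg.Agent.Lib.Helper18.OSubLeaf.omegaGL_comp Qf P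
  have hS : (monoSub ι F).map (MulAut.conj P).toMonoidHom = Cfsg.Geo.decompositionStabilizer D := by
    ext g
    constructor
    · rintro ⟨h, hh, rfl⟩
      exact Cfsg.Agent.Lib.Helper11.Fr2Leaf.conj_mem_stab_gen D e P hP h hh
    · intro hg
      refine ⟨P⁻¹ * g * P, ?_, ?_⟩
      · apply Cfsg.Agent.Lib.Helper11.Fr2Leaf.isMono_of_conj_mem_stab_gen D e P hP
        have e' : P * (P⁻¹ * g * P) * P⁻¹ = g := by group
        rw [e']
        exact hg
      · simp only [MulEquiv.coe_toMonoidHom, MulAut.conj_apply]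
        group
  rw [Subgroup.map_inf _ _ _ hinj, hΩ, hS] at h
  exact h

/-- the frame stabiliser is maximal for any quadratic form on `ι → F` with `card ι = 11`, `F` of odd prime order -/
theorem frame_eleven_gen (hodd : Odd (Fintype.card F)) (hprime : (Fintype.card F).Prime)
    (hι : Fintype.card ι = 11) (Qf : QuadraticForm F (ι → F))
    {t : ℕ} (D : Fin t → Submodule F (ι → F)) (hD : Cfsg.Geo.IsOrthogonalMDecomposition ⇑Qf 1 D) :
    Cfsg.Geo.IsMaximalIn (Cfsg.Geo.omegaGL ⇑Qf)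
      (Cfsg.Geo.decompositionStabilizer D ⊓ Cfsg.Geo.omegaGL ⇑Qf) := by
  have h2 : (2 : F) ≠ 0 := Cfsg.Agent.Lib.Helper25.Spin.two_ne_zero_of_odd_card hodd
  apply frame_of_core_five (by omega) h2 Qf _ D hD
  intro c hc
  exact Cfsg.Agent.Lib.Helper11.Om11F.Cfsg.Agent.Lib.Helper17.FrCMain.coreProp hprime hodd hc hι

/-- **CORE11 = conjunct 3 of S5858**: the frame stabiliser is maximal in `Ω_11(p)` -/
theorem frame_eleven (hodd : Odd (Fintype.card F)) (hprime : (Fintype.card F).Prime)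
    {t : ℕ} (D : Fin t → Submodule F (Unit ⊕ (Fin 5 ⊕ Fin 5) → F))
    (hD : Cfsg.Geo.IsOrthogonalMDecomposition (Cfsg.quadFormOdd 5 F) 1 D) :
    Cfsg.Geo.IsMaximalIn (Cfsg.Geo.omegaGL (Cfsg.quadFormOdd 5 F))
      (Cfsg.Geo.decompositionStabilizer D ⊓ Cfsg.Geo.omegaGL (Cfsg.quadFormOdd 5 F)) := by
  have h2 : (2 : F) ≠ 0 := Cfsg.Agent.Lib.Helper25.Spin.two_ne_zero_of_odd_card hodd
  obtain ⟨Qf, hQfe⟩ : ∃ Qf : QuadraticForm F (Unit ⊕ (Fin 5 ⊕ Fin 5) → F),
      ⇑Qf = Cfsg.quadFormOdd 5 F :=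
    ⟨Cfsg.Agent.Lib.Helper25.Spin.qfOf (Cfsg.Agent.Lib.Helper14.isQF_odd (m := 5) h2), rfl⟩
  rw [← hQfe] at hD ⊢
  apply frame_eleven_gen hodd hprime _ Qf D hD
  simp only [Fintype.card_sum, Fintype.card_unique, Fintype.card_fin]

end Cfsg.Agent.Lib.Helper11.Om11F
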